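import Cfsg.Agent.H26.ZassPSL

/-! Counting facts about two-point stabilisers (independent of Feit's theorem). -/

set_option autoImplicit false

namespace Cfsg.Agent.H26

open MulAction Cfsg.Agent.H12

variable {G Ω : Type*} [Group G] [MulAction G Ω]

theorem card_stab_dvd' [Finite Ω] (h3 : Fix3 G Ω) {a b : Ω} (hab : a ≠ b) :
    Nat.card (stabilizer G a ⊓ stabilizer G b : Subgroup G) ∣ Nat.card Ω - 2 := by
  let X : SubMulAction (stabilizer G a ⊓ stabilizer G b : Subgroup G) Ω :=
    { carrier := {a, b}ᶜ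
      smul_mem' := by
        rintro h x hx (e | e)
        · exact smul_ne_of_fix h.2.1 (fun e' => hx (Or.inl e')) e
        · exact smul_ne_of_fix h.2.2 (fun e' => hx (Or.inr e')) e }
  have e := selfEquivOrbitsQuotientProd (G := (stabilizer G a ⊓ stabilizer G b : Subgroup G))
    (X := X) (fun x => by
      rw [eq_bot_iff]
      intro h hh
      exact Subtype.ext (h3 h a b x hab (fun e => x.2 (Or.inr e.symm)) (fun e => x.2 (Or.inl e.symm))
        h.2.1 h.2.2 (congrArg Subtype.val hh)))
  rw [← card_compl_pair hab]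
  change _ ∣ Nat.card X
  rw [Nat.card_congr e, Nat.card_prod]
  exact Dvd.intro_left _ rfl

/-- If the two-point stabiliser has order at least `n - 1`, the group is triply transitive. -/
theorem mt3_of_card_stab' [Finite Ω] (hT : ZT G Ω) {a b : Ω} (hab : a ≠ b)
    (hd : Nat.card Ω - 2 ≤ Nat.card (stabilizer G a ⊓ stabilizer G b : Subgroup G)) :
    IsMultiplyPretransitive G Ω 3 := by
  classical
  refine mt_succ_of_one (zt_two hT) {a, b} (Finset.card_pair hab) ?_
  intro c hc x hx
  simp only [Finset.mem_insert, Finset.mem_singleton, not_or] at hc hx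
  let f : (stabilizer G a ⊓ stabilizer G b : Subgroup G) → ({a, b}ᶜ : Set Ω) := fun h =>
    ⟨(h : G) • c, by
      rintro (e | e)
      · exact smul_ne_of_fix h.2.1 hc.1 e
      · exact smul_ne_of_fix h.2.2 hc.2 e⟩
  have hf : Function.Injective f := fun x y e => Subtype.ext
    ((zt_fix3 hT).eq_of_three hab (Ne.symm hc.2) (Ne.symm hc.1) (x.2.1.trans y.2.1.symm)
      (x.2.2.trans y.2.2.symm) (congrArg Subtype.val e))
  obtain ⟨h, hh⟩ := (hf.bijective_of_nat_card_le (by rwa [card_compl_pair hab])).2
    ⟨x, by rintro (e | e); exacts [hx.1 e, hx.2 e]⟩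
  refine ⟨h, ?_, congrArg Subtype.val hh⟩
  intro y hy
  rcases Finset.mem_insert.1 hy with rfl | hy
  · exact h.2.1
  · rw [Finset.mem_singleton.1 hy]
    exact h.2.2

end Cfsg.Agent.H26
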