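import Cfsg.Agent.H26.C1D
import Cfsg.Agent.H26.Mod.C1M0
import Cfsg.Agent.H26.Mod.C1M1

/-! The double coset enumeration of the monomial subgroup in the first Conway group: data. -/

set_option autoImplicit false
set_option maxRecDepth 100000
set_option exponentiation.threshold 400000

namespace Cfsg.Agent.H26.C1

open Cfsg Cfsg.Agent.H97 Cfsg.Agent.H58 Cfsg.Agent.H17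

def LW : List (List ℕ) := [[], [], [19], [19, 6], [19, 6, 4, 3, 6], [19, 6, 4, 5, 4, 6], [19, 6, 4, 3, 6, 19], [19, 6, 4, 5, 4, 6, 19], [19, 6, 4, 3, 6, 19, 5, 4, 6], [19, 6, 4, 5, 4, 6, 19, 3, 6], [19, 6, 4, 3, 6, 19, 5, 4, 6, 5, 4, 3, 6], [19, 6, 4, 5, 4, 6, 19, 5, 4, 3, 6], [19, 6, 4, 5, 4, 6, 19, 3, 6, 4, 5, 4, 6], [19, 6, 4, 5, 4, 6, 19, 5, 4, 6, 5, 4, 3, 6], [19, 6, 4, 3, 6, 19, 5, 4, 6, 5, 4, 3, 6, 19], [19, 6, 4, 5, 4, 6, 19, 3, 6, 4, 5, 4, 6, 19], [19, 6, 4, 5, 4, 6, 19, 3, 6, 4, 5, 4, 6, 19, 3, 6], [19, 6, 4, 5, 4, 6, 19, 3, 6, 4, 5, 4, 6, 19, 5, 4, 3, 6]]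

noncomputable def FT0 : ℕ → Fct := (ndA (nat_lit 8) (ndA (nat_lit 4) (ndA (nat_lit 2) (ndA (nat_lit 1) (lfA (⟨0, [1], 0, []⟩ : Fct)) (lfA (⟨0, [2], 0, []⟩ : Fct))) (ndA (nat_lit 3) (lfA (⟨0, [3], 0, []⟩ : Fct)) (lfA (⟨0, [4], 0, []⟩ : Fct)))) (ndA (nat_lit 6) (ndA (nat_lit 5) (lfA (⟨0, [5], 0, []⟩ : Fct)) (lfA (⟨0, [6], 0, []⟩ : Fct))) (ndA (nat_lit 7) (lfA (⟨0, [7], 0, []⟩ : Fct)) (lfA (⟨0, [], 1, []⟩ : Fct))))) (ndA (nat_lit 12) (ndA (nat_lit 10) (ndA (nat_lit 9) (lfA (⟨1, [1], 1, []⟩ : Fct)) (lfA (⟨1, [2], 1, []⟩ : Fct))) (ndA (nat_lit 11) (lfA (⟨1, [3], 1, []⟩ : Fct)) (lfA (⟨1, [4], 1, []⟩ : Fct)))) (ndA (nat_lit 14) (ndA (nat_lit 13) (lfA (⟨1, [5], 1, []⟩ : Fct)) (lfA (⟨1, [7], 1, []⟩ : Fct))) (ndA (nat_lit 15) (lfA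 (⟨1, [8, 10, 12, 13, 14, 15, 16, 17], 1, []⟩ : Fct)) (lfA (⟨1, [7, 9, 11, 12, 13, 16, 18], 1, []⟩ : Fct))))))
noncomputable def FT1 : ℕ → Fct := (ndA (nat_lit 24) (ndA (nat_lit 20) (ndA (nat_lit 18) (ndA (nat_lit 17) (lfA (⟨1, [19], 2, []⟩ : Fct)) (lfA (⟨2, [7, 1], 2, []⟩ : Fct))) (ndA (nat_lit 19) (lfA (⟨2, [2], 2, []⟩ : Fct)) (lfA (⟨2, [3], 2, []⟩ : Fct)))) (ndA (nat_lit 22) (ndA (nat_lit 21) (lfA (⟨2, [4], 2, []⟩ : Fct)) (lfA (⟨2, [7, 10, 5], 2, []⟩ : Fct))) (ndA (nat_lit 23) (lfA (⟨2, [7], 2, []⟩ : Fct)) (lfA (⟨2, [1, 3, 10, 12, 13, 15, 1, 5, 2, 3, 2, 5, 1, 3], 2, []⟩ : Fct))))) (ndA (nat_lit 28) (ndA (nat_lit 26) (ndA (nat_lit 25) (lfA (⟨2, [6], 3, []⟩ : Fct)) (lfA (⟨3, [7, 1], 3, []⟩ : Fct))) (ndA (nat_lit 27) (lfA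 (⟨3, [2, 3, 12, 15, 5, 2, 3, 2], 3, []⟩ : Fct)) (lfA (⟨3, [7], 3, []⟩ : Fct)))) (ndA (nat_lit 30) (ndA (nat_lit 29) (lfA (⟨3, [10, 11, 1, 3, 1, 5, 2, 3, 2, 5, 1, 3], 3, []⟩ : Fct)) (lfA (⟨3, [7, 2, 3, 2, 3, 1, 2, 1, 3, 2, 3], 3, []⟩ : Fct))) (ndA (nat_lit 31) (lfA (⟨3, [1, 3, 1, 8, 14, 16, 17, 5, 2, 3, 2, 5, 1, 3], 3, []⟩ : Fct)) (lfA (⟨3, [1, 3, 5, 1, 3, 9, 11, 13, 1, 3, 1, 5, 1], 3, []⟩ : Fct))))))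
noncomputable def FT2 : ℕ → Fct := (ndA (nat_lit 40) (ndA (nat_lit 36) (ndA (nat_lit 34) (ndA (nat_lit 33) (lfA (⟨3, [1, 3, 1, 2, 1, 3], 3, []⟩ : Fct)) (lfA (⟨3, [2, 1, 3, 2, 3, 4, 3, 2, 11, 13, 3, 4], 3, []⟩ : Fct))) (ndA (nat_lit 35) (lfA (⟨3, [5, 2, 3, 10, 11, 14, 18, 1, 3, 5, 1, 3, 2, 5], 3, []⟩ : Fct)) (lfA (⟨2, [13, 15, 16, 1, 2, 5, 1, 2, 1, 5, 2, 1, 6], 3, [1, 5, 1, 2, 3, 5, 2, 7, 9, 14, 3, 2, 19]⟩ : Fct)))) (ndA (nat_lit 38) (ndA (nat_lit 37) (lfA (⟨2, [13, 15, 16, 1, 2, 5, 1, 2, 1, 5, 2, 1, 6], 3, [1, 5, 1, 2, 3, 5, 2, 7, 9, 14, 3, 2, 19]⟩ : Fct)) (lfA (⟨3, [8, 9, 3, 1, 2, 5, 1, 2, 3, 2, 5, 19], 3, []⟩ : Fct))) (ndA (nat_lit 39) (lfA (⟨2, [6, 4, 3, 6], 4, []⟩ : Fct)) (lfA (⟨4, [4], 4, []⟩ : Fct))))) (ndA (nat_lit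 44) (ndA (nat_lit 42) (ndA (nat_lit 41) (lfA (⟨4, [7], 4, []⟩ : Fct)) (lfA (⟨4, [8, 1, 3, 5, 1, 3, 1, 3, 1, 5, 1], 4, []⟩ : Fct))) (ndA (nat_lit 43) (lfA (⟨4, [7, 2, 1, 3, 2, 1, 2, 3, 1, 2], 4, []⟩ : Fct)) (lfA (⟨4, [1, 3, 2, 4, 2, 3, 1, 3, 2, 3, 4], 4, []⟩ : Fct)))) (ndA (nat_lit 46) (ndA (nat_lit 45) (lfA (⟨4, [1, 3, 5, 1, 3, 7, 11, 13, 1, 3, 1, 5, 1], 4, []⟩ : Fct)) (lfA (⟨4, [1, 10, 13, 14, 15, 18, 2, 1, 3, 2, 1, 3, 1, 3], 4, []⟩ : Fct))) (ndA (nat_lit 47) (lfA (⟨2, [6, 4, 5, 4, 6], 5, []⟩ : Fct)) (lfA (⟨5, [8, 10, 12, 13, 14, 15, 16, 17], 5, []⟩ : Fct))))))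
noncomputable def FT3 : ℕ → Fct := (ndA (nat_lit 56) (ndA (nat_lit 52) (ndA (nat_lit 50) (ndA (nat_lit 49) (lfA (⟨5, [2, 1, 3, 11, 12, 13, 15, 2, 3, 4, 3, 2, 3, 4], 5, []⟩ : Fct)) (lfA (⟨5, [1, 3, 8, 9, 10, 12, 13, 15, 1, 2, 4, 3], 5, []⟩ : Fct))) (ndA (nat_lit 51) (lfA (⟨5, [2, 1, 3, 7, 12, 2, 3, 4, 3, 2, 3, 4], 5, []⟩ : Fct)) (lfA (⟨5, [10, 14, 15], 5, []⟩ : Fct)))) (ndA (nat_lit 54) (ndA (nat_lit 53) (lfA (⟨5, [1, 2, 1, 3, 14, 16, 18, 2, 1, 3, 1, 3], 5, []⟩ : Fct)) (lfA (⟨5, [2, 4, 2, 3, 5, 1, 2, 1, 2, 3, 5], 5, []⟩ : Fct))) (ndA (nat_lit 55) (lfA (⟨5, [1, 3, 1, 3, 1, 2, 3, 2], 5, []⟩ : Fct)) (lfA (⟨5, [2, 1, 3, 5, 1, 2, 1, 2, 3, 5], 5, []⟩ : Fct))))) (ndA (nat_lit 60) (ndA (nat_lit 58) (ndA (nat_lit 57) (lfA (⟨5, [2,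 1, 3, 5, 1, 2, 17, 18, 1, 2, 3, 5], 5, []⟩ : Fct)) (lfA (⟨5, [1, 5, 2, 1, 3, 2, 16, 17, 3, 5], 5, []⟩ : Fct))) (ndA (nat_lit 59) (lfA (⟨4, [19], 6, []⟩ : Fct)) (lfA (⟨6, [4], 6, []⟩ : Fct)))) (ndA (nat_lit 62) (ndA (nat_lit 61) (lfA (⟨6, [7], 6, []⟩ : Fct)) (lfA (⟨6, [8, 1, 3, 5, 1, 3, 1, 3, 1, 5, 1], 6, []⟩ : Fct))) (ndA (nat_lit 63) (lfA (⟨6, [2, 1, 3, 2, 1, 2, 3, 1, 2], 6, []⟩ : Fct)) (lfA (⟨6, [1, 3, 2, 4, 2, 3, 1, 3, 2, 3, 4], 6, []⟩ : Fct))))))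
noncomputable def FT4 : ℕ → Fct := (ndA (nat_lit 72) (ndA (nat_lit 68) (ndA (nat_lit 66) (ndA (nat_lit 65) (lfA (⟨6, [5, 2, 3, 4, 15, 3, 2, 1, 3, 4, 2, 5], 6, []⟩ : Fct)) (lfA (⟨6, [1, 2, 1, 3, 13, 15, 1, 4, 3, 2, 1], 6, []⟩ : Fct))) (ndA (nat_lit 67) (lfA (⟨4, [19, 1, 13, 11, 9, 8, 5, 3, 2, 1, 3, 1, 5], 6, [9, 12, 14, 3, 5, 1, 2, 1, 2, 3, 1, 2, 1, 6, 2]⟩ : Fct)) (lfA (⟨4, [19, 1, 13, 11, 9, 8, 5, 3, 2, 1, 3, 1, 5], 6, [9, 12, 14, 3, 5, 1, 2, 1, 2, 3, 1, 2, 1, 6, 2]⟩ : Fct)))) (ndA (nat_lit 70) (ndA (nat_lit 69) (lfA (⟨6, [1, 2, 4, 3, 5, 1, 5, 4, 3, 6, 3], 6, []⟩ : Fct)) (lfA (⟨5, [19], 7, []⟩ : Fct))) (ndA (nat_lit 71) (lfA (⟨7, [1, 3, 10, 12, 13, 15, 1, 5, 2, 3, 2, 5, 1, 3], 7, []⟩ : Fct)) (lfA (⟨7, [3, 2, 7, 9, 11, 12,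 13, 15, 3, 1, 3, 2, 3], 7, []⟩ : Fct))))) (ndA (nat_lit 76) (ndA (nat_lit 74) (ndA (nat_lit 73) (lfA (⟨7, [4, 5, 2, 14, 15, 1, 2, 5, 4], 7, []⟩ : Fct)) (lfA (⟨7, [3, 1, 5, 2, 11, 12, 17, 3, 2, 5, 1, 3], 7, []⟩ : Fct))) (ndA (nat_lit 75) (lfA (⟨7, [1, 5, 1, 5, 1, 5, 7, 14, 15, 1, 5], 7, []⟩ : Fct)) (lfA (⟨7, [2, 4, 2, 3, 5, 1, 2, 1, 2, 3, 5], 7, []⟩ : Fct)))) (ndA (nat_lit 78) (ndA (nat_lit 77) (lfA (⟨7, [7, 1, 3, 1, 3, 1, 2, 3, 2], 7, []⟩ : Fct)) (lfA (⟨7, [7, 2, 1, 3, 5, 1, 2, 1, 2, 3, 5], 7, []⟩ : Fct))) (ndA (nat_lit 79) (lfA (⟨7, [3, 2, 1, 3, 5, 1, 3, 1, 5, 7, 11, 12, 13, 14], 7, []⟩ : Fct)) (lfA (⟨7, [1, 9, 15, 16, 2, 1, 3, 2, 3], 7, []⟩ : Fct))))))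
noncomputable def FT5 : ℕ → Fct := (ndA (nat_lit 88) (ndA (nat_lit 84) (ndA (nat_lit 82) (ndA (nat_lit 81) (lfA (⟨5, [18, 19, 5, 2, 3, 13, 10, 8, 1, 2, 1, 5, 3], 7, [1, 3, 1, 7, 14, 16, 17, 2, 1, 2, 3, 1, 6]⟩ : Fct)) (lfA (⟨5, [18, 19, 5, 2, 3, 13, 10, 8, 1, 2, 1, 5, 3], 7, [1, 3, 1, 7, 14, 16, 17, 2, 1, 2, 3, 1, 6]⟩ : Fct))) (ndA (nat_lit 83) (lfA (⟨7, [2, 1, 3, 2, 1, 9, 12, 13, 15, 3, 1, 3, 2, 6, 2], 7, []⟩ : Fct)) (lfA (⟨6, [5, 4, 6], 8, []⟩ : Fct)))) (ndA (nat_lit 86) (ndA (nat_lit 85) (lfA (⟨8, [8, 10, 12, 13, 14, 15, 16, 17], 8, []⟩ : Fct)) (lfA (⟨8, [2, 1, 2, 5, 1, 11, 5, 1, 5, 1, 5], 8, []⟩ : Fct))) (ndA (nat_lit 87) (lfA (⟨8, [3, 1, 5, 18, 15, 10, 3, 1, 5, 2, 3], 8, []⟩ : Fct)) (lfA (⟨8, [2, 4, 5, 1, 5, 4, 2], 8,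 []⟩ : Fct))))) (ndA (nat_lit 92) (ndA (nat_lit 90) (ndA (nat_lit 89) (lfA (⟨8, [7, 3, 1, 2, 1, 2, 3, 1, 3, 2, 3], 8, []⟩ : Fct)) (lfA (⟨8, [3, 1, 18, 14, 13, 2, 1, 5, 3, 1, 5, 1], 8, []⟩ : Fct))) (ndA (nat_lit 91) (lfA (⟨7, [5, 1, 3, 1, 2, 5, 4, 2, 9, 12, 15, 16, 3, 4, 6, 2], 8, [7, 10, 12, 16, 2, 1, 2, 19]⟩ : Fct)) (lfA (⟨7, [5, 1, 3, 1, 2, 5, 4, 2, 9, 12, 15, 16, 3, 4, 6, 2], 8, [7, 10, 12, 16, 2, 1, 2, 19]⟩ : Fct)))) (ndA (nat_lit 94) (ndA (nat_lit 93) (lfA (⟨7, [3, 6], 9, []⟩ : Fct)) (lfA (⟨9, [1, 3, 5, 1, 3, 9, 11, 13, 1, 3, 1, 5, 1], 9, []⟩ : Fct))) (ndA (nat_lit 95) (lfA (⟨9, [2, 3, 4, 7, 15, 3, 2, 1, 3, 4, 2], 9, []⟩ : Fct)) (lfA (⟨9, [7, 1, 2, 1, 5, 1, 2, 1, 2, 5, 2], 9, []⟩ : Fct))))))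
noncomputable def FT6 : ℕ → Fct := (ndA (nat_lit 104) (ndA (nat_lit 100) (ndA (nat_lit 98) (ndA (nat_lit 97) (lfA (⟨9, [2, 1, 12, 13, 14, 15, 18, 3, 2, 1, 3, 2, 1, 3], 9, []⟩ : Fct)) (lfA (⟨9, [3, 2, 1, 2, 3, 18, 16, 14, 12, 1, 3, 2, 1], 9, []⟩ : Fct))) (ndA (nat_lit 99) (lfA (⟨9, [4, 3, 18, 12, 8, 2, 1, 2, 3, 4, 3, 2, 3], 9, []⟩ : Fct)) (lfA (⟨9, [3, 2, 1, 18, 16, 9, 2, 1, 5, 3, 1, 5, 2], 9, []⟩ : Fct)))) (ndA (nat_lit 102) (ndA (nat_lit 101) (lfA (⟨7, [1, 4, 3, 2, 4, 3, 9, 10, 12, 1, 5, 1, 2, 5, 6], 9, [1, 3, 2, 15, 5, 1, 3, 1, 3, 1, 5, 19]⟩ : Fct)) (lfA (⟨7, [1, 4, 3, 2, 4, 3, 9, 10, 12, 1, 5, 1, 2, 5, 6], 9, [1, 3, 2, 15, 5, 1, 3, 1, 3, 1, 5, 19]⟩ : Fct))) (ndA (nat_lit 103) (lfA (⟨9, [8, 11, 15, 16, 1, 2, 3, 5, 1, 2,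 1, 3, 1, 2, 19, 18], 9, []⟩ : Fct)) (lfA (⟨6, [5, 4, 6, 5, 4, 3, 6], 10, []⟩ : Fct))))) (ndA (nat_lit 108) (ndA (nat_lit 106) (ndA (nat_lit 105) (lfA (⟨10, [7, 9, 11, 12, 13, 16, 18], 10, []⟩ : Fct)) (lfA (⟨10, [2, 4, 3, 5, 14, 15, 1, 3, 5, 4, 2], 10, []⟩ : Fct))) (ndA (nat_lit 107) (lfA (⟨10, [1, 5, 7, 14, 15, 1, 5, 1], 10, []⟩ : Fct)) (lfA (⟨10, [3, 4, 3, 2, 5, 2, 1, 2, 5], 10, []⟩ : Fct)))) (ndA (nat_lit 110) (ndA (nat_lit 109) (lfA (⟨10, [8, 11, 12, 13, 16, 18], 10, []⟩ : Fct)) (lfA (⟨10, [1, 5, 2, 3, 2, 4, 5, 1, 3, 1], 10, []⟩ : Fct))) (ndA (nat_lit 111) (lfA (⟨7, [5, 4, 3, 6], 11, []⟩ : Fct)) (lfA (⟨11, [12, 13, 16, 1, 5, 1, 5, 1], 11, []⟩ : Fct))))))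
noncomputable def FT7 : ℕ → Fct := (ndA (nat_lit 120) (ndA (nat_lit 116) (ndA (nat_lit 114) (ndA (nat_lit 113) (lfA (⟨11, [1, 3, 5, 1, 3, 8, 9, 11, 13, 1, 3, 1, 5, 1], 11, []⟩ : Fct)) (lfA (⟨11, [1, 3, 1, 7, 10, 16, 5, 1, 3, 5, 2], 11, []⟩ : Fct))) (ndA (nat_lit 115) (lfA (⟨11, [1, 3, 1, 3, 2, 7, 8, 10, 15, 17, 3, 1, 3], 11, []⟩ : Fct)) (lfA (⟨11, [3, 4, 9, 14, 16, 17, 5, 1, 3, 5, 4, 5, 1, 5], 11, []⟩ : Fct)))) (ndA (nat_lit 118) (ndA (nat_lit 117) (lfA (⟨11, [1, 2, 3, 1, 2, 1, 10, 17, 18, 3, 2, 5, 1, 5], 11, []⟩ : Fct)) (lfA (⟨11, [1, 2, 3, 1, 3, 5, 11, 18, 1, 2, 3, 2, 5], 11, []⟩ : Fct))) (ndA (nat_lit 119) (lfA (⟨7, [2, 1, 3, 15, 17, 2, 5, 4, 2, 3, 2, 1, 6, 2, 4], 11, [13, 15, 16, 17, 18, 1, 2, 1, 3, 2, 4, 3, 1, 3, 19]⟩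 : Fct)) (lfA (⟨7, [2, 1, 3, 15, 17, 2, 5, 4, 2, 3, 2, 1, 6, 2, 4], 11, [13, 15, 16, 17, 18, 1, 2, 1, 3, 2, 4, 3, 1, 3, 19]⟩ : Fct))))) (ndA (nat_lit 124) (ndA (nat_lit 122) (ndA (nat_lit 121) (lfA (⟨11, [1, 3, 2, 1, 3, 2, 15, 17, 18, 5, 1, 3, 5, 2, 19, 18], 11, []⟩ : Fct)) (lfA (⟨7, [3, 6, 4, 5, 4, 6], 12, []⟩ : Fct))) (ndA (nat_lit 123) (lfA (⟨12, [7, 8, 9, 10, 11, 14, 18, 1, 3, 1, 2, 4, 3], 12, []⟩ : Fct)) (lfA (⟨12, [1, 5, 7, 9, 11, 12, 13, 16, 17, 1, 5, 1], 12, []⟩ : Fct)))) (ndA (nat_lit 126) (ndA (nat_lit 125) (lfA (⟨12, [3, 4, 3, 5, 1, 5, 2, 3, 8, 13, 16, 17, 18], 12, []⟩ : Fct)) (lfA (⟨12, [2, 1, 2, 5, 1, 12, 14, 16, 18, 5], 12, []⟩ : Fct))) (ndA (nat_lit 127) (lfA (⟨7, [5, 4, 6, 5, 4, 3, 6], 13, []⟩ : Fct)) (lfA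 (⟨13, [1, 8, 10, 12, 13, 16, 2, 3, 4, 3, 2, 1], 13, []⟩ : Fct))))))
noncomputable def FT8 : ℕ → Fct := (ndA (nat_lit 136) (ndA (nat_lit 132) (ndA (nat_lit 130) (ndA (nat_lit 129) (lfA (⟨13, [1, 5, 7, 8, 9, 10, 11, 14, 18, 1, 5, 1], 13, []⟩ : Fct)) (lfA (⟨13, [1, 5, 2, 7, 10, 14, 3, 2, 5, 4], 13, []⟩ : Fct))) (ndA (nat_lit 131) (lfA (⟨13, [4, 14, 17, 18, 5, 2, 3, 2, 1, 5, 1], 13, []⟩ : Fct)) (lfA (⟨13, [9, 11, 12, 1, 5, 2, 3, 2, 5, 4], 13, []⟩ : Fct)))) (ndA (nat_lit 134) (ndA (nat_lit 133) (lfA (⟨13, [11, 18, 2, 5, 2, 1, 2, 5, 2], 13, []⟩ : Fct)) (lfA (⟨10, [19], 14, []⟩ : Fct))) (ndA (nat_lit 135) (lfA (⟨14, [1, 2, 4, 12, 14, 2, 3, 1, 2, 4, 2], 14, []⟩ : Fct)) (lfA (⟨14, [5, 14, 15, 1, 5], 14, []⟩ : Fct))))) (ndA (nat_lit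 140) (ndA (nat_lit 138) (ndA (nat_lit 137) (lfA (⟨14, [3, 4, 3, 2, 5, 2, 1, 2, 5], 14, []⟩ : Fct)) (lfA (⟨14, [7, 8, 9], 14, []⟩ : Fct))) (ndA (nat_lit 139) (lfA (⟨14, [1, 5, 2, 3, 2, 4, 5, 1, 3, 11, 1], 14, []⟩ : Fct)) (lfA (⟨13, [3, 1, 3, 1, 2, 5, 2, 7, 12, 13, 16, 3, 19], 14, [2, 1, 2, 3, 1, 10, 12, 2, 3, 4, 5, 6]⟩ : Fct)))) (ndA (nat_lit 142) (ndA (nat_lit 141) (lfA (⟨13, [3, 1, 3, 1, 2, 5, 2, 7, 12, 13, 16, 3, 19], 14, [2, 1, 2, 3, 1, 10, 12, 2, 3, 4, 5, 6]⟩ : Fct)) (lfA (⟨14, [1, 5, 2, 3, 2, 1, 5, 1, 4, 6, 3, 1, 4, 6], 14, []⟩ : Fct))) (ndA (nat_lit 143) (lfA (⟨12, [19], 15, []⟩ : Fct)) (lfA (⟨15, [1, 2, 1, 3, 11, 12, 13, 15, 2, 1, 3, 1, 3], 15, []⟩ : Fct))))))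
noncomputable def FT9 : ℕ → Fct := (ndA (nat_lit 152) (ndA (nat_lit 148) (ndA (nat_lit 146) (ndA (nat_lit 145) (lfA (⟨15, [7, 10, 15, 17, 3, 2, 3, 1, 2, 1, 3, 2, 3], 15, []⟩ : Fct)) (lfA (⟨15, [2, 11, 13, 14, 4, 3, 5, 1, 5, 2, 1, 3], 15, []⟩ : Fct))) (ndA (nat_lit 147) (lfA (⟨12, [1, 3, 1, 2, 1, 7, 18, 5, 2, 3, 2, 4, 19], 15, [1, 3, 2, 5, 4, 10, 12, 13, 2, 3, 1, 2, 3, 6, 2]⟩ : Fct)) (lfA (⟨12, [1, 3, 1, 2, 1, 7, 18, 5, 2, 3, 2, 4, 19], 15, [1, 3, 2, 5, 4, 10, 12, 13, 2, 3, 1, 2, 3, 6, 2]⟩ : Fct)))) (ndA (nat_lit 150) (ndA (nat_lit 149) (lfA (⟨15, [3, 1, 2, 1, 5, 4, 3, 2, 9, 10, 18, 4, 3, 1, 6, 2, 3, 4, 5, 4, 3], 15, []⟩ : Fct)) (lfA (⟨15, [3, 6], 16, []⟩ : Fct))) (ndA (nat_lit 151) (lfA (⟨16, [5, 3, 18, 16, 10, 7, 2, 1,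 2, 1, 5, 3, 2, 1], 16, []⟩ : Fct)) (lfA (⟨16, [5, 2, 1, 2, 5, 3, 2, 3, 2, 17, 16, 15, 7, 1], 16, []⟩ : Fct))))) (ndA (nat_lit 156) (ndA (nat_lit 154) (ndA (nat_lit 153) (lfA (⟨16, [2, 1, 5, 1, 5, 13, 10, 1, 2, 1], 16, []⟩ : Fct)) (lfA (⟨16, [3, 2, 3, 1, 13, 16, 3, 5, 1, 3, 2, 5], 16, []⟩ : Fct))) (ndA (nat_lit 155) (lfA (⟨16, [4, 5, 2, 3, 2, 4, 8, 13, 18, 3, 2, 4, 5], 16, []⟩ : Fct)) (lfA (⟨15, [8, 9, 10, 13, 14, 15, 1, 2, 1, 2, 3, 1, 5, 6], 16, [19, 5, 4, 3, 17, 12, 7, 2, 4, 3, 2, 4, 3]⟩ : Fct)))) (ndA (nat_lit 158) (ndA (nat_lit 157) (lfA (⟨15, [8, 9, 10, 13, 14, 15, 1, 2, 1, 2, 3, 1, 5, 6], 16, [19, 5, 4, 3, 17, 12, 7, 2, 4, 3, 2, 4, 3]⟩ : Fct)) (lfA (⟨16, [8, 11, 17, 2, 3, 5, 2, 3, 2, 5, 1, 19], 16, []⟩ : Fct))) (ndA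 (nat_lit 159) (lfA (⟨15, [5, 4, 3, 6], 17, []⟩ : Fct)) (lfA (⟨17, [7, 8, 9], 17, []⟩ : Fct))))))
noncomputable def FT10 : ℕ → Fct := (ndA (nat_lit 162) (ndA (nat_lit 161) (lfA (⟨17, [7, 8, 11, 15, 16, 2, 5, 2, 1, 2, 5, 2], 17, []⟩ : Fct)) (lfA (⟨17, [9, 13, 18, 2, 3, 1, 5, 1, 3, 2, 1, 2, 5], 17, []⟩ : Fct))) (ndA (nat_lit 163) (lfA (⟨17, [8, 9, 15, 3, 1, 4, 5, 4, 5, 4, 5, 1, 3], 17, []⟩ : Fct)) (ndA (nat_lit 164) (lfA (⟨14, [8, 11, 17, 18, 5, 1, 5, 2, 4, 2, 3, 4, 5, 6, 2, 4, 3, 6, 5], 17, [2, 5, 1, 9, 18, 3, 1, 2, 5, 1, 3, 19]⟩ : Fct)) (lfA (⟨14, [8, 11, 17, 18, 5, 1, 5, 2, 4, 2, 3, 4, 5, 6, 2, 4, 3, 6, 5], 17, [2, 5, 1, 9, 18, 3, 1, 2, 5, 1, 3, 19]⟩ : Fct)))))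
noncomputable def FT : ℕ → Fct := (ndA (nat_lit 80) (ndA (nat_lit 32) (ndA (nat_lit 16) FT0 FT1) (ndA (nat_lit 48) FT2 (ndA (nat_lit 64) FT3 FT4))) (ndA (nat_lit 128) (ndA (nat_lit 96) FT5 (ndA (nat_lit 112) FT6 FT7)) (ndA (nat_lit 144) FT8 (ndA (nat_lit 160) FT9 FT10))))

noncomputable def DT0 : ℕ → Der := (ndA (nat_lit 8) (ndA (nat_lit 4) (ndA (nat_lit 2) (ndA (nat_lit 1) (lfA (⟨1, 0, 0, [], [], 0⟩ : Der)) (lfA (⟨1, 0, 0, [], [], 0⟩ : Der))) (ndA (nat_lit 3) (lfA (⟨1, 0, 0, [], [], 0⟩ : Der)) (lfA (⟨1, 0, 0, [], [], 0⟩ : Der)))) (ndA (nat_lit 6) (ndA (nat_lit 5) (lfA (⟨1, 0, 0, [], [], 0⟩ : Der)) (lfA (⟨1, 0, 0, [], [], 0⟩ : Der))) (ndA (nat_lit 7) (lfA (⟨1, 0, 0, [], [], 0⟩ : Der)) (lfA (⟨0, 0, 0, [], [], 1⟩ : Der)))))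 (ndA (nat_lit 12) (ndA (nat_lit 10) (ndA (nat_lit 9) (lfA (⟨2, 0, 0, [], [⟨0, [], 15, 1, [1]⟩, ⟨0, [0], 14, 0, []⟩], 1⟩ : Der)) (lfA (⟨2, 0, 0, [], [⟨0, [], 15, 1, [2]⟩, ⟨0, [2], 14, 0, []⟩], 1⟩ : Der))) (ndA (nat_lit 11) (lfA (⟨2, 0, 0, [], [⟨0, [], 15, 1, [3]⟩, ⟨0, [4], 14, 0, []⟩], 1⟩ : Der)) (lfA (⟨2, 0, 0, [], [⟨0, [], 15, 1, [4]⟩, ⟨0, [6], 14, 0, []⟩], 1⟩ : Der)))) (ndA (nat_lit 14) (ndA (nat_lit 13) (lfA (⟨2, 0, 0, [], [⟨0, [], 15, 1, [5]⟩, ⟨0, [8], 14, 0, []⟩], 1⟩ : Der)) (lfA (⟨2, 0, 0, [], [⟨0, [], 15, 1, [7]⟩, ⟨0, [12], 14, 0, []⟩], 1⟩ : Der))) (ndA (nat_lit 15) (lfA (⟨2, 0, 0, [], [⟨0, [], 15, 1, [8, 10, 12, 13, 14, 15, 16, 17]⟩, ⟨0, [10, 6, 8, 12, 9, 7, 11], 14, 0, []⟩], 1⟩ : Der)) (lfA (⟨2, 0, 0, [], [⟨0, [],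 15, 1, [7, 9, 11, 12, 13, 16, 18]⟩, ⟨0, [10, 4, 6, 8, 10, 6, 8, 12, 9, 7, 11, 9, 7, 5, 11], 14, 0, []⟩], 1⟩ : Der))))))
noncomputable def DT1 : ℕ → Der := (ndA (nat_lit 24) (ndA (nat_lit 20) (ndA (nat_lit 18) (ndA (nat_lit 17) (lfA (⟨0, 0, 0, [], [], 0⟩ : Der)) (lfA (⟨2, 0, 0, [], [⟨0, [], 33, 0, [7, 1]⟩, ⟨0, [16], 32, 1, []⟩], 0⟩ : Der))) (ndA (nat_lit 19) (lfA (⟨2, 0, 0, [], [⟨0, [], 33, 0, [2]⟩, ⟨0, [18], 32, 1, []⟩], 0⟩ : Der)) (lfA (⟨2, 0, 0, [], [⟨0, [], 33, 0, [3]⟩, ⟨0, [20], 32, 1, []⟩], 0⟩ : Der)))) (ndA (nat_lit 22) (ndA (nat_lit 21) (lfA (⟨2, 0, 0, [], [⟨0, [], 33, 0, [4]⟩, ⟨0, [22], 32, 1, []⟩], 0⟩ : Der)) (lfA (⟨2, 0, 0, [], [⟨0, [], 33, 0, [7, 10, 5]⟩, ⟨0, [24], 32, 1, []⟩], 0⟩ : Der))) (ndA (nat_lit 23) (lfA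 (⟨2, 0, 0, [], [⟨0, [], 33, 0, [7]⟩, ⟨0, [26], 32, 1, []⟩], 0⟩ : Der)) (lfA (⟨2, 0, 0, [], [⟨0, [], 33, 0, [1, 3, 10, 12, 13, 15, 1, 5, 2, 3, 2, 5, 1, 3]⟩, ⟨0, [28], 32, 1, []⟩], 0⟩ : Der))))) (ndA (nat_lit 28) (ndA (nat_lit 26) (ndA (nat_lit 25) (lfA (⟨0, 0, 0, [], [], 1⟩ : Der)) (lfA (⟨2, 0, 0, [], [⟨0, [], 49, 1, [7, 1]⟩, ⟨0, [34], 48, 0, []⟩], 1⟩ : Der))) (ndA (nat_lit 27) (lfA (⟨2, 0, 0, [], [⟨0, [], 49, 1, [2, 3, 12, 15, 5, 2, 3, 2]⟩, ⟨0, [42, 37], 48, 0, []⟩], 1⟩ : Der)) (lfA (⟨2, 0, 0, [], [⟨0, [], 49, 1, [7]⟩, ⟨0, [44], 48, 0, []⟩], 1⟩ : Der)))) (ndA (nat_lit 30) (ndA (nat_lit 29) (lfA (⟨2, 0, 0, [], [⟨0, [], 49, 1, [10, 11, 1, 3, 1, 5, 2, 3, 2, 5, 1, 3]⟩, ⟨0, [46], 48, 0, []⟩], 1⟩ : Der)) (lfA (⟨2, 0, 0, [], [⟨0,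 [], 49, 1, [7, 2, 3, 2, 3, 1, 2, 1, 3, 2, 3]⟩, ⟨0, [36, 34, 37], 48, 0, []⟩], 1⟩ : Der))) (ndA (nat_lit 31) (lfA (⟨2, 0, 0, [], [⟨0, [], 49, 1, [1, 3, 1, 8, 14, 16, 17, 5, 2, 3, 2, 5, 1, 3]⟩, ⟨0, [36, 46, 37], 48, 0, []⟩], 1⟩ : Der)) (lfA (⟨2, 0, 0, [], [⟨0, [], 49, 1, [1, 3, 5, 1, 3, 9, 11, 13, 1, 3, 1, 5, 1]⟩, ⟨0, [38, 46, 39], 48, 0, []⟩], 1⟩ : Der))))))
noncomputable def DT2 : ℕ → Der := (ndA (nat_lit 40) (ndA (nat_lit 36) (ndA (nat_lit 34) (ndA (nat_lit 33) (lfA (⟨2, 0, 0, [], [⟨0, [], 49, 1, [1, 3, 1, 2, 1, 3]⟩, ⟨0, [38, 34, 36, 35, 39], 48, 0, []⟩], 1⟩ : Der)) (lfA (⟨2, 0, 0, [], [⟨0, [], 49, 1, [2, 1, 3, 2, 3, 4, 3, 2, 11, 13, 3, 4]⟩, ⟨0, [40, 42, 46, 43, 41], 48, 0, []⟩], 1⟩ : Der))) (ndA (nat_lit 35) (lfA (⟨2,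 0, 0, [], [⟨0, [], 49, 1, [5, 2, 3, 10, 11, 14, 18, 1, 3, 5, 1, 3, 2, 5]⟩, ⟨0, [38, 40, 42, 46, 43, 41, 39, 37], 48, 0, []⟩], 1⟩ : Der)) (lfA (⟨2, 2, 11, [], [⟨2, [], 33, 0, [13, 15, 16, 1, 2, 5, 1, 2, 1, 5, 2]⟩, ⟨1, [], 15, 1, [1, 3, 2, 3, 5, 2, 1, 5, 11, 14, 16, 2, 1]⟩, ⟨6, [11], 14, 0, [5, 4, 3, 2, 3, 9, 10, 14, 4, 2, 5]⟩, ⟨1, [], 32, 1, [1, 2, 1, 2, 3, 2, 5, 7, 9, 14, 2, 3]⟩, ⟨3, [37], 48, 0, [1, 5, 1, 2, 3, 5, 2, 7, 9, 14, 3, 2]⟩], 1⟩ : Der)))) (ndA (nat_lit 38) (ndA (nat_lit 37) (lfA (⟨2, 0, 0, [], [⟨0, [], 70, 0, []⟩], 1⟩ : Der)) (lfA (⟨2, 0, 0, [3, 12, 10, 1, 3, 1, 5, 2, 1, 3, 1, 3], [⟨0, [], 73, 1, []⟩, ⟨0, [37], 48, 0, [2, 1, 13, 15, 16, 3, 2, 3, 5, 1, 3, 2, 3]⟩], 1⟩ : Der))) (ndA (nat_lit 39) (lfA (⟨0, 0, 0, [],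 [], 1⟩ : Der)) (lfA (⟨2, 0, 0, [], [⟨0, [], 77, 1, [4]⟩, ⟨0, [38], 76, 0, []⟩], 1⟩ : Der))))) (ndA (nat_lit 44) (ndA (nat_lit 42) (ndA (nat_lit 41) (lfA (⟨2, 0, 0, [], [⟨0, [], 77, 1, [7]⟩, ⟨0, [44], 76, 0, []⟩], 1⟩ : Der)) (lfA (⟨2, 0, 0, [], [⟨0, [], 77, 1, [8, 1, 3, 5, 1, 3, 1, 3, 1, 5, 1]⟩, ⟨0, [46], 76, 0, []⟩], 1⟩ : Der))) (ndA (nat_lit 43) (lfA (⟨2, 0, 0, [], [⟨0, [], 77, 1, [7, 2, 1, 3, 2, 1, 2, 3, 1, 2]⟩, ⟨0, [34, 36, 41], 76, 0, []⟩], 1⟩ : Der)) (lfA (⟨2, 0, 0, [], [⟨0, [], 77, 1, [1, 3, 2, 4, 2, 3, 1, 3, 2, 3, 4]⟩, ⟨0, [34, 40, 39, 35], 76, 0, []⟩], 1⟩ : Der)))) (ndA (nat_lit 46) (ndA (nat_lit 45) (lfA (⟨2, 0, 0, [], [⟨0, [], 77, 1, [1, 3, 5, 1, 3, 7, 11, 13, 1, 3, 1, 5, 1]⟩, ⟨0, [36, 46, 37], 76, 0, []⟩], 1⟩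 : Der)) (lfA (⟨2, 0, 0, [], [⟨0, [], 77, 1, [1, 10, 13, 14, 15, 18, 2, 1, 3, 2, 1, 3, 1, 3]⟩, ⟨0, [42, 46, 35, 43], 76, 0, []⟩], 1⟩ : Der))) (ndA (nat_lit 47) (lfA (⟨0, 0, 0, [], [], 1⟩ : Der)) (lfA (⟨2, 0, 0, [], [⟨0, [], 93, 1, [8, 10, 12, 13, 14, 15, 16, 17]⟩, ⟨0, [44], 92, 0, []⟩], 1⟩ : Der))))))
noncomputable def DT3 : ℕ → Der := (ndA (nat_lit 56) (ndA (nat_lit 52) (ndA (nat_lit 50) (ndA (nat_lit 49) (lfA (⟨2, 0, 0, [], [⟨0, [], 93, 1, [2, 1, 3, 11, 12, 13, 15, 2, 3, 4, 3, 2, 3, 4]⟩, ⟨0, [46], 92, 0, []⟩], 1⟩ : Der)) (lfA (⟨2, 0, 0, [], [⟨0, [], 93, 1, [1, 3, 8, 9, 10, 12, 13, 15, 1, 2, 4, 3]⟩, ⟨0, [34, 36, 41], 92, 0, []⟩], 1⟩ : Der))) (ndA (nat_lit 51) (lfA (⟨2, 0, 0, [], [⟨0, [], 93, 1, [2, 1, 3, 7, 12, 2, 3, 4,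 3, 2, 3, 4]⟩, ⟨0, [36, 46, 37], 92, 0, []⟩], 1⟩ : Der)) (lfA (⟨2, 0, 0, [], [⟨0, [], 93, 1, [10, 14, 15]⟩, ⟨0, [42, 44, 43], 92, 0, []⟩], 1⟩ : Der)))) (ndA (nat_lit 54) (ndA (nat_lit 53) (lfA (⟨2, 0, 0, [], [⟨0, [], 93, 1, [1, 2, 1, 3, 14, 16, 18, 2, 1, 3, 1, 3]⟩, ⟨0, [42, 46, 35, 43], 92, 0, []⟩], 1⟩ : Der)) (lfA (⟨2, 0, 0, [], [⟨0, [], 93, 1, [2, 4, 2, 3, 5, 1, 2, 1, 2, 3, 5]⟩, ⟨0, [34, 38, 34, 41, 39], 92, 0, []⟩], 1⟩ : Der))) (ndA (nat_lit 55) (lfA (⟨2, 0, 0, [], [⟨0, [], 93, 1, [1, 3, 1, 3, 1, 2, 3, 2]⟩, ⟨0, [34, 42, 34, 43, 35], 92, 0, []⟩], 1⟩ : Der)) (lfA (⟨2, 0, 0, [], [⟨0, [], 93, 1, [2, 1, 3, 5, 1, 2, 1, 2, 3, 5]⟩, ⟨0, [38, 34, 36, 35, 39], 92, 0, []⟩], 1⟩ : Der))))) (ndA (nat_lit 60) (ndA (nat_lit 58) (ndA (nat_lit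 57) (lfA (⟨2, 0, 0, [], [⟨0, [], 93, 1, [2, 1, 3, 5, 1, 2, 17, 18, 1, 2, 3, 5]⟩, ⟨0, [36, 38, 34, 46, 37, 35, 39, 37], 92, 0, []⟩], 1⟩ : Der)) (lfA (⟨2, 0, 0, [], [⟨0, [], 93, 1, [1, 5, 2, 1, 3, 2, 16, 17, 3, 5]⟩, ⟨0, [36, 38, 36, 42, 47, 43, 39], 92, 0, []⟩], 1⟩ : Der))) (ndA (nat_lit 59) (lfA (⟨0, 0, 0, [], [], 0⟩ : Der)) (lfA (⟨2, 0, 0, [], [⟨0, [], 117, 0, [4]⟩, ⟨0, [78], 116, 1, []⟩], 0⟩ : Der)))) (ndA (nat_lit 62) (ndA (nat_lit 61) (lfA (⟨2, 0, 0, [], [⟨0, [], 117, 0, [7]⟩, ⟨0, [80], 116, 1, []⟩], 0⟩ : Der)) (lfA (⟨2, 0, 0, [], [⟨0, [], 117, 0, [8, 1, 3, 5, 1, 3, 1, 3, 1, 5, 1]⟩, ⟨0, [82], 116, 1, []⟩], 0⟩ : Der))) (ndA (nat_lit 63) (lfA (⟨2, 0, 0, [], [⟨0, [], 117, 0, [2, 1, 3, 2, 1, 2, 3, 1, 2]⟩, ⟨0, [84], 116, 1,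 []⟩], 0⟩ : Der)) (lfA (⟨2, 0, 0, [], [⟨0, [], 117, 0, [1, 3, 2, 4, 2, 3, 1, 3, 2, 3, 4]⟩, ⟨0, [86], 116, 1, []⟩], 0⟩ : Der))))))
noncomputable def DT4 : ℕ → Der := (ndA (nat_lit 72) (ndA (nat_lit 68) (ndA (nat_lit 66) (ndA (nat_lit 65) (lfA (⟨2, 0, 0, [], [⟨0, [], 117, 0, [5, 2, 3, 4, 15, 3, 2, 1, 3, 4, 2, 5]⟩, ⟨0, [88], 116, 1, []⟩], 0⟩ : Der)) (lfA (⟨2, 0, 0, [], [⟨0, [], 117, 0, [1, 2, 1, 3, 13, 15, 1, 4, 3, 2, 1]⟩, ⟨0, [90, 78, 91], 116, 1, []⟩], 0⟩ : Der))) (ndA (nat_lit 67) (lfA (⟨2, 2, 10, [], [⟨1, [], 77, 1, [1, 7, 8, 13, 3, 1, 5, 2, 1, 3, 1, 3, 5]⟩, ⟨2, [41, 37], 48, 0, [4, 5, 1, 2, 3, 7, 8, 9, 13, 1, 2]⟩, ⟨1, [75], 49, 1, [1, 5, 17, 1, 5, 2, 3, 4, 5]⟩, ⟨6, [35], 76, 0, [3, 1, 2, 1, 2, 3, 5, 1, 2, 8, 13]⟩, ⟨1, [],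 116, 1, [9, 12, 14, 3, 5, 1, 2, 1, 2, 3, 1, 2]⟩], 0⟩ : Der)) (lfA (⟨2, 0, 0, [], [⟨0, [], 132, 1, []⟩], 0⟩ : Der)))) (ndA (nat_lit 70) (ndA (nat_lit 69) (lfA (⟨2, 0, 0, [8, 12, 16, 17, 1, 3, 5, 2, 1, 3, 1, 5], [⟨0, [], 135, 0, []⟩, ⟨0, [], 116, 1, [8, 12, 16, 17, 1, 3, 5, 2, 1, 3, 1, 5]⟩], 0⟩ : Der)) (lfA (⟨0, 0, 0, [], [], 0⟩ : Der))) (ndA (nat_lit 71) (lfA (⟨2, 0, 0, [], [⟨0, [], 139, 0, [1, 3, 10, 12, 13, 15, 1, 5, 2, 3, 2, 5, 1, 3]⟩, ⟨0, [94], 138, 1, []⟩], 0⟩ : Der)) (lfA (⟨2, 0, 0, [], [⟨0, [], 139, 0, [3, 2, 7, 9, 11, 12, 13, 15, 3, 1, 3, 2, 3]⟩, ⟨0, [96], 138, 1, []⟩], 0⟩ : Der))))) (ndA (nat_lit 76) (ndA (nat_lit 74) (ndA (nat_lit 73) (lfA (⟨2, 0, 0, [], [⟨0, [], 139, 0, [4, 5, 2, 14, 15, 1, 2, 5, 4]⟩, ⟨0, [98],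 138, 1, []⟩], 0⟩ : Der)) (lfA (⟨2, 0, 0, [], [⟨0, [], 139, 0, [3, 1, 5, 2, 11, 12, 17, 3, 2, 5, 1, 3]⟩, ⟨0, [100], 138, 1, []⟩], 0⟩ : Der))) (ndA (nat_lit 75) (lfA (⟨2, 0, 0, [], [⟨0, [], 139, 0, [1, 5, 1, 5, 1, 5, 7, 14, 15, 1, 5]⟩, ⟨0, [102], 138, 1, []⟩], 0⟩ : Der)) (lfA (⟨2, 0, 0, [], [⟨0, [], 139, 0, [2, 4, 2, 3, 5, 1, 2, 1, 2, 3, 5]⟩, ⟨0, [106], 138, 1, []⟩], 0⟩ : Der)))) (ndA (nat_lit 78) (ndA (nat_lit 77) (lfA (⟨2, 0, 0, [], [⟨0, [], 139, 0, [7, 1, 3, 1, 3, 1, 2, 3, 2]⟩, ⟨0, [108], 138, 1, []⟩], 0⟩ : Der)) (lfA (⟨2, 0, 0, [], [⟨0, [], 139, 0, [7, 2, 1, 3, 5, 1, 2, 1, 2, 3, 5]⟩, ⟨0, [110], 138, 1, []⟩], 0⟩ : Der))) (ndA (nat_lit 79) (lfA (⟨2, 0, 0, [], [⟨0, [], 139, 0, [3, 2, 1, 3, 5, 1, 3, 1, 5, 7, 11, 12, 13, 14]⟩,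 ⟨0, [112, 105], 138, 1, []⟩], 0⟩ : Der)) (lfA (⟨2, 0, 0, [], [⟨0, [], 139, 0, [1, 9, 15, 16, 2, 1, 3, 2, 3]⟩, ⟨0, [114], 138, 1, []⟩], 0⟩ : Der))))))
noncomputable def DT5 : ℕ → Der := (ndA (nat_lit 88) (ndA (nat_lit 84) (ndA (nat_lit 82) (ndA (nat_lit 81) (lfA (⟨2, 1, 7, [], [⟨1, [], 93, 1, [7, 11, 14, 15, 18, 1, 3, 1, 2, 1, 3, 2, 5, 1, 5]⟩, ⟨6, [], 48, 0, [4, 3, 1, 8, 9, 13, 14, 15, 2, 3, 2, 5, 4, 2, 3]⟩, ⟨1, [75], 49, 1, [1, 11, 12, 16, 4, 3, 1, 2, 3, 5, 2, 3, 4, 3]⟩, ⟨2, [39, 47, 39, 35], 92, 0, [2, 5, 1, 3, 7, 9, 11, 13, 1, 5, 1, 3]⟩, ⟨1, [], 138, 1, [1, 3, 1, 7, 14, 16, 17, 2, 1, 2, 3, 2]⟩], 0⟩ : Der)) (lfA (⟨2, 0, 0, [], [⟨0, [], 160, 1, []⟩], 0⟩ : Der))) (ndA (nat_lit 83) (lfA (⟨2, 0, 0, [4, 3, 5, 1, 3, 5, 1, 3,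 2, 4, 12, 13, 14], [⟨0, [], 163, 0, []⟩, ⟨0, [105], 138, 1, [4, 3, 5, 1, 3, 5, 1, 3, 2, 4, 12, 13, 14]⟩], 0⟩ : Der)) (lfA (⟨0, 0, 0, [], [], 1⟩ : Der)))) (ndA (nat_lit 86) (ndA (nat_lit 85) (lfA (⟨2, 0, 0, [], [⟨0, [], 167, 1, [8, 10, 12, 13, 14, 15, 16, 17]⟩, ⟨0, [120], 166, 0, []⟩], 1⟩ : Der)) (lfA (⟨2, 0, 0, [], [⟨0, [], 167, 1, [2, 1, 2, 5, 1, 11, 5, 1, 5, 1, 5]⟩, ⟨0, [118, 130, 119], 166, 0, []⟩], 1⟩ : Der))) (ndA (nat_lit 87) (lfA (⟨2, 0, 0, [], [⟨0, [], 167, 1, [3, 1, 3, 5, 1, 5, 7, 10, 13, 16, 18, 2, 3]⟩, ⟨0, [124, 126, 131, 123], 166, 0, []⟩], 1⟩ : Der)) (lfA (⟨2, 0, 0, [], [⟨0, [], 167, 1, [2, 4, 5, 1, 5, 4, 2]⟩, ⟨0, [124, 136, 136], 166, 0, []⟩], 1⟩ : Der))))) (ndA (nat_lit 92) (ndA (nat_lit 90) (ndA (nat_lit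 89) (lfA (⟨2, 0, 0, [], [⟨0, [], 167, 1, [7, 3, 1, 2, 1, 2, 3, 1, 3, 2, 3]⟩, ⟨0, [126, 124, 127, 123], 166, 0, []⟩], 1⟩ : Der)) (lfA (⟨2, 0, 0, [], [⟨0, [], 167, 1, [7, 14, 16, 18, 1, 3, 2, 1, 2, 3, 1, 2, 3]⟩, ⟨0, [126, 130, 125, 123], 166, 0, []⟩], 1⟩ : Der))) (ndA (nat_lit 91) (lfA (⟨2, 1, 4, [], [⟨3, [], 139, 0, [5, 1, 3, 1, 2, 5, 4, 2, 9, 12, 15, 16, 3, 1, 4]⟩, ⟨1, [], 93, 1, [10, 13, 14, 15, 2, 1, 2, 3, 2, 5, 1, 4, 3, 2]⟩, ⟨6, [43, 39, 35], 76, 0, [3, 1, 3, 2, 1, 3, 4, 2, 5, 4, 9, 12, 13]⟩, ⟨1, [], 116, 1, [1, 2, 5, 2, 4, 13, 16, 5, 1, 3, 4, 2, 5]⟩, ⟨2, [131], 166, 0, [7, 10, 12, 16, 2, 1, 2]⟩], 1⟩ : Der)) (lfA (⟨2, 0, 0, [], [⟨0, [], 180, 0, []⟩], 1⟩ : Der)))) (ndA (nat_lit 94) (ndA (nat_lit 93) (lfA (⟨0, 0, 0, [],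 [], 1⟩ : Der)) (lfA (⟨2, 0, 0, [], [⟨0, [], 185, 1, [1, 3, 5, 1, 3, 9, 11, 13, 1, 3, 1, 5, 1]⟩, ⟨0, [140], 184, 0, []⟩], 1⟩ : Der))) (ndA (nat_lit 95) (lfA (⟨2, 0, 0, [], [⟨0, [], 185, 1, [2, 3, 4, 7, 15, 3, 2, 1, 3, 4, 2]⟩, ⟨0, [148], 184, 0, []⟩], 1⟩ : Der)) (lfA (⟨2, 0, 0, [], [⟨0, [], 185, 1, [7, 1, 2, 1, 5, 1, 2, 1, 2, 5, 2]⟩, ⟨0, [152], 184, 0, []⟩], 1⟩ : Der))))))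
noncomputable def DT6 : ℕ → Der := (ndA (nat_lit 104) (ndA (nat_lit 100) (ndA (nat_lit 98) (ndA (nat_lit 97) (lfA (⟨2, 0, 0, [], [⟨0, [], 185, 1, [2, 1, 12, 13, 14, 15, 18, 3, 2, 1, 3, 2, 1, 3]⟩, ⟨0, [154, 147], 184, 0, []⟩], 1⟩ : Der)) (lfA (⟨2, 0, 0, [], [⟨0, [], 185, 1, [1, 3, 2, 1, 2, 3, 7, 9, 11, 13, 18, 1, 3, 2]⟩, ⟨0, [158, 157], 184, 0, []⟩], 1⟩ : Der))) (ndA (nat_lit 99) (lfA (⟨2, 0, 0, [], [⟨0, [], 185, 1, [3, 4, 3, 2, 10, 14, 17, 18, 1, 2, 3, 4, 2, 3]⟩, ⟨0, [164, 147], 184, 0, []⟩], 1⟩ : Der)) (lfA (⟨2, 0, 0, [], [⟨0, [], 185, 1, [1, 2, 5, 1, 10, 11, 14, 15, 18, 3, 1, 3, 5, 1, 3]⟩, ⟨0, [144, 158, 145], 184, 0, []⟩], 1⟩ : Der)))) (ndA (nat_lit 102) (ndA (nat_lit 101) (lfA (⟨2, 2, 7, [], [⟨3, [], 139, 0, [1, 5, 1,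 9, 14, 5, 1, 4, 2, 5, 1, 3]⟩, ⟨1, [], 93, 1, [2, 11, 12, 13, 3, 4, 2, 3, 5, 2, 1, 5, 2]⟩, ⟨2, [41, 43, 35, 37, 35, 43], 92, 0, [7, 8, 11, 15, 2, 3, 5, 2, 1, 2, 3, 1, 5]⟩, ⟨1, [], 138, 1, [9, 10, 15, 2, 1, 5, 1, 5, 1, 2, 3, 2]⟩, ⟨6, [147], 184, 0, [1, 3, 2, 15, 5, 1, 3, 1, 3, 1, 5]⟩], 1⟩ : Der)) (lfA (⟨2, 0, 0, [], [⟨0, [], 200, 0, []⟩], 1⟩ : Der))) (ndA (nat_lit 103) (lfA (⟨2, 0, 0, [5, 1, 2, 10, 11, 13, 18, 3, 1, 2, 1, 3], [⟨0, [], 203, 1, []⟩, ⟨0, [145], 184, 0, [5, 1, 2, 10, 11, 13, 18, 3, 1, 2, 1, 3]⟩], 1⟩ : Der)) (lfA (⟨0, 0, 0, [], [], 1⟩ : Der))))) (ndA (nat_lit 108) (ndA (nat_lit 106) (ndA (nat_lit 105) (lfA (⟨2, 0, 0, [], [⟨0, [], 207, 1, [7, 9, 11, 12, 13, 16, 18]⟩, ⟨0, [120], 206, 0, []⟩], 1⟩ : Der)) (lfA (⟨2,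 0, 0, [], [⟨0, [], 207, 1, [2, 4, 3, 5, 14, 15, 1, 3, 5, 4, 2]⟩, ⟨0, [130], 206, 0, []⟩], 1⟩ : Der))) (ndA (nat_lit 107) (lfA (⟨2, 0, 0, [], [⟨0, [], 207, 1, [1, 5, 7, 14, 15, 1, 5, 1]⟩, ⟨0, [118, 130, 119], 206, 0, []⟩], 1⟩ : Der)) (lfA (⟨2, 0, 0, [], [⟨0, [], 207, 1, [3, 4, 3, 2, 5, 2, 1, 2, 5]⟩, ⟨0, [124, 126, 125], 206, 0, []⟩], 1⟩ : Der)))) (ndA (nat_lit 110) (ndA (nat_lit 109) (lfA (⟨2, 0, 0, [], [⟨0, [], 207, 1, [8, 11, 12, 13, 16, 18]⟩, ⟨0, [136, 122, 137, 123], 206, 0, []⟩], 1⟩ : Der)) (lfA (⟨2, 0, 0, [], [⟨0, [], 207, 1, [1, 5, 2, 3, 2, 4, 5, 1, 3, 1]⟩, ⟨0, [137, 126, 137, 119], 206, 0, []⟩], 1⟩ : Der))) (ndA (nat_lit 111) (lfA (⟨0, 0, 0, [], [], 1⟩ : Der)) (lfA (⟨2, 0, 0, [], [⟨0, [], 221, 1, [12, 13, 16, 1, 5,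 1, 5, 1]⟩, ⟨0, [146, 143], 220, 0, []⟩], 1⟩ : Der))))))
noncomputable def DT7 : ℕ → Der := (ndA (nat_lit 120) (ndA (nat_lit 116) (ndA (nat_lit 114) (ndA (nat_lit 113) (lfA (⟨2, 0, 0, [], [⟨0, [], 221, 1, [1, 3, 5, 1, 3, 8, 9, 11, 13, 1, 3, 1, 5, 1]⟩, ⟨0, [148, 141], 220, 0, []⟩], 1⟩ : Der)) (lfA (⟨2, 0, 0, [], [⟨0, [], 221, 1, [1, 3, 1, 7, 10, 16, 5, 1, 3, 5, 2]⟩, ⟨0, [140, 152, 159], 220, 0, []⟩], 1⟩ : Der))) (ndA (nat_lit 115) (lfA (⟨2, 0, 0, [], [⟨0, [], 221, 1, [1, 3, 1, 3, 2, 7, 8, 10, 15, 17, 3, 1, 3]⟩, ⟨0, [142, 154, 157], 220, 0, []⟩], 1⟩ : Der)) (lfA (⟨2, 0, 0, [], [⟨0, [], 221, 1, [3, 4, 9, 14, 16, 17, 5, 1, 3, 5, 4, 5, 1, 5]⟩, ⟨0, [144, 154, 151, 145], 220, 0, []⟩], 1⟩ : Der)))) (ndA (nat_lit 118) (ndA (nat_lit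 117) (lfA (⟨2, 0, 0, [], [⟨0, [], 221, 1, [1, 2, 3, 1, 2, 1, 10, 17, 18, 3, 2, 5, 1, 5]⟩, ⟨0, [144, 156, 151, 141], 220, 0, []⟩], 1⟩ : Der)) (lfA (⟨2, 0, 0, [], [⟨0, [], 221, 1, [1, 2, 3, 1, 3, 5, 11, 18, 1, 2, 3, 2, 5]⟩, ⟨0, [150, 156, 158, 145], 220, 0, []⟩], 1⟩ : Der))) (ndA (nat_lit 119) (lfA (⟨2, 1, 4, [], [⟨3, [], 184, 0, [2, 3, 5, 1, 2, 12, 14, 15, 17, 4, 3, 2]⟩, ⟨1, [204], 185, 1, [3, 5, 7, 16, 18, 1, 5, 2, 4, 3]⟩, ⟨6, [147, 145], 184, 0, [8, 9, 10, 18, 1, 2, 1, 3, 2, 5, 1, 5, 4, 3, 2]⟩, ⟨1, [205], 185, 1, [9, 15, 16, 1, 5, 1, 2, 5, 2, 3, 1, 4, 3]⟩, ⟨2, [143], 220, 0, [13, 15, 16, 17, 18, 1, 2, 1, 3, 2, 4, 3, 1, 3]⟩], 1⟩ : Der)) (lfA (⟨2, 0, 0, [], [⟨0, [], 236, 0, []⟩], 1⟩ : Der))))) (ndA (nat_lit 124) (ndA (nat_lit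 122) (ndA (nat_lit 121) (lfA (⟨2, 0, 0, [1, 3, 2, 7, 8, 17, 18, 4, 3, 5, 1, 3, 1, 5], [⟨0, [], 239, 1, []⟩, ⟨0, [143], 220, 0, [1, 3, 2, 7, 8, 17, 18, 4, 3, 5, 1, 3, 1, 5]⟩], 1⟩ : Der)) (lfA (⟨0, 0, 0, [], [], 1⟩ : Der))) (ndA (nat_lit 123) (lfA (⟨2, 0, 0, [], [⟨0, [], 243, 1, [7, 8, 9, 10, 11, 14, 18, 1, 3, 1, 2, 4, 3]⟩, ⟨0, [146, 145], 242, 0, []⟩], 1⟩ : Der)) (lfA (⟨2, 0, 0, [], [⟨0, [], 243, 1, [1, 5, 7, 9, 11, 12, 13, 16, 17, 1, 5, 1]⟩, ⟨0, [152], 242, 0, []⟩], 1⟩ : Der)))) (ndA (nat_lit 126) (ndA (nat_lit 125) (lfA (⟨2, 0, 0, [], [⟨0, [], 243, 1, [3, 4, 3, 5, 1, 5, 2, 3, 8, 13, 16, 17, 18]⟩, ⟨0, [142, 144, 159], 242, 0, []⟩], 1⟩ : Der)) (lfA (⟨2, 0, 0, [], [⟨0, [], 243, 1, [2, 1, 2, 5, 1, 12, 14, 16, 18, 5]⟩, ⟨0, [148,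 154, 156, 143], 242, 0, []⟩], 1⟩ : Der))) (ndA (nat_lit 127) (lfA (⟨0, 0, 0, [], [], 1⟩ : Der)) (lfA (⟨2, 0, 0, [], [⟨0, [], 253, 1, [1, 8, 10, 12, 13, 16, 2, 3, 4, 3, 2, 1]⟩, ⟨0, [144], 252, 0, []⟩], 1⟩ : Der))))))
noncomputable def DT8 : ℕ → Der := (ndA (nat_lit 136) (ndA (nat_lit 132) (ndA (nat_lit 130) (ndA (nat_lit 129) (lfA (⟨2, 0, 0, [], [⟨0, [], 253, 1, [1, 5, 7, 8, 9, 10, 11, 14, 18, 1, 5, 1]⟩, ⟨0, [142, 148, 153, 141], 252, 0, []⟩], 1⟩ : Der)) (lfA (⟨2, 0, 0, [], [⟨0, [], 253, 1, [1, 5, 2, 7, 10, 14, 3, 2, 5, 4]⟩, ⟨0, [146, 150, 147], 252, 0, []⟩], 1⟩ : Der))) (ndA (nat_lit 131) (lfA (⟨2, 0, 0, [], [⟨0, [], 253, 1, [4, 14, 17, 18, 5, 2, 3, 2, 1, 5, 1]⟩, ⟨0, [150, 146, 153], 252, 0, []⟩], 1⟩ : Der)) (lfA (⟨2, 0,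 0, [], [⟨0, [], 253, 1, [9, 11, 12, 1, 5, 2, 3, 2, 5, 4]⟩, ⟨0, [156, 144, 157, 141], 252, 0, []⟩], 1⟩ : Der)))) (ndA (nat_lit 134) (ndA (nat_lit 133) (lfA (⟨2, 0, 0, [], [⟨0, [], 253, 1, [11, 18, 2, 5, 2, 1, 2, 5, 2]⟩, ⟨0, [156, 154, 158, 149], 252, 0, []⟩], 1⟩ : Der)) (lfA (⟨0, 0, 0, [], [], 0⟩ : Der))) (ndA (nat_lit 135) (lfA (⟨2, 0, 0, [], [⟨0, [], 267, 0, [1, 2, 4, 12, 14, 2, 3, 1, 2, 4, 2]⟩, ⟨0, [210], 266, 1, []⟩], 0⟩ : Der)) (lfA (⟨2, 0, 0, [], [⟨0, [], 267, 0, [5, 14, 15, 1, 5]⟩, ⟨0, [212], 266, 1, []⟩], 0⟩ : Der))))) (ndA (nat_lit 140) (ndA (nat_lit 138) (ndA (nat_lit 137) (lfA (⟨2, 0, 0, [], [⟨0, [], 267, 0, [3, 4, 3, 2, 5, 2, 1, 2, 5]⟩, ⟨0, [214], 266, 1, []⟩], 0⟩ : Der)) (lfA (⟨2, 0, 0, [], [⟨0, [], 267, 0, [7,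 8, 9]⟩, ⟨0, [216, 209], 266, 1, []⟩], 0⟩ : Der))) (ndA (nat_lit 139) (lfA (⟨2, 0, 0, [], [⟨0, [], 267, 0, [1, 5, 2, 3, 2, 4, 5, 1, 3, 11, 1]⟩, ⟨0, [218], 266, 1, []⟩], 0⟩ : Der)) (lfA (⟨2, 1, 3, [], [⟨1, [], 253, 1, [3, 1, 3, 1, 2, 5, 2, 7, 12, 13, 16, 3]⟩, ⟨3, [155], 182, 0, [7, 8, 17, 1, 5, 2, 3, 4, 2, 3, 5, 2, 3, 1]⟩, ⟨1, [], 167, 1, [1, 5, 1, 4, 5, 2, 1, 12, 16, 2, 3, 2]⟩, ⟨6, [126, 119], 206, 0, [11, 16, 18, 1, 2, 4, 2, 3, 2, 1, 2, 5]⟩, ⟨1, [209], 266, 1, [1, 2, 4, 3, 1, 3, 2, 11, 13, 3, 5]⟩], 0⟩ : Der)))) (ndA (nat_lit 142) (ndA (nat_lit 141) (lfA (⟨2, 0, 0, [], [⟨0, [], 278, 1, []⟩], 0⟩ : Der)) (lfA (⟨2, 0, 0, [2, 1, 2, 3, 1, 10, 12, 2, 3, 4, 5, 6], [⟨0, [], 281, 0, [1, 3, 2, 5, 4, 3, 2, 5, 2, 3]⟩, ⟨0, [254], 280,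 1, []⟩], 0⟩ : Der))) (ndA (nat_lit 143) (lfA (⟨0, 0, 0, [], [], 0⟩ : Der)) (lfA (⟨2, 0, 0, [], [⟨0, [], 285, 0, [1, 2, 1, 3, 11, 12, 13, 15, 2, 1, 3, 1, 3]⟩, ⟨0, [246], 284, 1, []⟩], 0⟩ : Der))))))
noncomputable def DT9 : ℕ → Der := (ndA (nat_lit 152) (ndA (nat_lit 148) (ndA (nat_lit 146) (ndA (nat_lit 145) (lfA (⟨2, 0, 0, [], [⟨0, [], 285, 0, [7, 10, 15, 17, 3, 2, 3, 1, 2, 1, 3, 2, 3]⟩, ⟨0, [248, 245], 284, 1, []⟩], 0⟩ : Der)) (lfA (⟨2, 0, 0, [], [⟨0, [], 285, 0, [2, 11, 13, 14, 4, 3, 5, 1, 5, 2, 1, 3]⟩, ⟨0, [250, 245], 284, 1, []⟩], 0⟩ : Der))) (ndA (nat_lit 147) (lfA (⟨2, 2, 6, [], [⟨1, [], 243, 1, [1, 3, 1, 2, 1, 7, 18, 5, 2, 3, 2, 4]⟩, ⟨3, [164, 157], 220, 0, [7, 8, 12, 15, 18, 3, 4, 2, 5, 2, 4, 3, 5, 1, 5]⟩, ⟨1, [241],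 221, 1, [1, 3, 4, 3, 2, 3, 5, 1, 13, 17, 18, 3, 1, 4]⟩, ⟨2, [145, 159, 145, 164, 143], 242, 0, [1, 3, 2, 1, 8, 9, 12, 13, 15, 5, 1, 3, 1, 4]⟩, ⟨1, [], 284, 1, [1, 2, 1, 3, 5, 2, 4, 2, 3, 8, 11, 12, 1, 3]⟩], 0⟩ : Der)) (lfA (⟨2, 0, 0, [], [⟨0, [], 292, 1, []⟩], 0⟩ : Der)))) (ndA (nat_lit 150) (ndA (nat_lit 149) (lfA (⟨2, 0, 0, [5, 1, 3, 5, 4, 3, 2, 4, 3, 5, 7, 10, 11, 16, 4], [⟨0, [], 295, 0, []⟩, ⟨0, [245], 284, 1, [5, 1, 3, 5, 4, 3, 2, 4, 3, 5, 7, 10, 11, 16, 4]⟩], 0⟩ : Der)) (lfA (⟨0, 0, 0, [], [], 1⟩ : Der))) (ndA (nat_lit 151) (lfA (⟨2, 0, 0, [], [⟨0, [], 299, 1, [1, 10, 11, 12, 16, 18, 2, 3, 5, 1, 2, 1, 2, 3, 5]⟩, ⟨0, [288], 298, 0, []⟩], 1⟩ : Der)) (lfA (⟨2, 0, 0, [], [⟨0, [], 299, 1, [8, 11, 12, 13, 14, 1, 2, 3, 2,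 3, 5, 2, 1, 2, 5]⟩, ⟨0, [290, 288, 291], 298, 0, []⟩], 1⟩ : Der))))) (ndA (nat_lit 156) (ndA (nat_lit 154) (ndA (nat_lit 153) (lfA (⟨2, 0, 0, [], [⟨0, [], 299, 1, [1, 2, 1, 5, 1, 5, 1, 7, 10, 11, 13, 2]⟩, ⟨0, [290, 290, 290, 287], 298, 0, []⟩], 1⟩ : Der)) (lfA (⟨2, 0, 0, [], [⟨0, [], 299, 1, [3, 2, 3, 1, 13, 16, 3, 5, 1, 3, 2, 5]⟩, ⟨0, [286, 288, 296, 289, 297], 298, 0, []⟩], 1⟩ : Der))) (ndA (nat_lit 155) (lfA (⟨2, 0, 0, [], [⟨0, [], 299, 1, [4, 5, 2, 3, 2, 4, 8, 13, 18, 3, 2, 4, 5]⟩, ⟨0, [296, 296, 296, 290, 297], 298, 0, []⟩], 1⟩ : Der)) (lfA (⟨2, 2, 7, [], [⟨3, [], 285, 0, [1, 2, 1, 2, 3, 1, 5, 1, 8, 13, 14, 16, 17, 2]⟩, ⟨1, [], 243, 1, [5, 1, 2, 1, 3, 1, 5, 12, 13, 14, 1, 5]⟩, ⟨2, [164, 145], 242, 0, [7, 10, 15, 17,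 3, 2, 4, 5, 2, 1, 5, 2, 1]⟩, ⟨1, [], 284, 1, [7, 9, 15, 17, 1, 2, 5, 1, 5, 4, 3, 1, 2, 3, 5]⟩, ⟨6, [287, 290], 298, 0, [3, 5, 4, 2, 13, 16, 17, 3, 2, 4, 3, 2, 4, 2]⟩], 1⟩ : Der)))) (ndA (nat_lit 158) (ndA (nat_lit 157) (lfA (⟨2, 0, 0, [], [⟨0, [], 310, 0, []⟩], 1⟩ : Der)) (lfA (⟨2, 0, 0, [5, 17, 16, 14, 11, 1, 3, 2, 5, 1, 2, 1, 3, 2], [⟨0, [], 313, 1, []⟩, ⟨0, [], 298, 0, [3, 2, 8, 10, 11, 12, 14, 5, 2, 1, 2, 3, 1, 3, 2]⟩], 1⟩ : Der))) (ndA (nat_lit 159) (lfA (⟨0, 0, 0, [], [], 1⟩ : Der)) (lfA (⟨2, 0, 0, [], [⟨0, [], 317, 1, [7, 8, 9]⟩, ⟨0, [288, 288], 316, 0, []⟩], 1⟩ : Der))))))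
noncomputable def DT10 : ℕ → Der := (ndA (nat_lit 162) (ndA (nat_lit 161) (lfA (⟨2, 0, 0, [], [⟨0, [], 317, 1, [7, 8, 11, 15, 16, 2, 5, 2, 1, 2, 5, 2]⟩, ⟨0, [290, 286, 290, 287], 316, 0, []⟩], 1⟩ : Der)) (lfA (⟨2, 0, 0, [], [⟨0, [], 317, 1, [9, 13, 18, 2, 3, 1, 5, 1, 3, 2, 1, 2, 5]⟩, ⟨0, [286, 290, 288, 290, 290], 316, 0, []⟩], 1⟩ : Der))) (ndA (nat_lit 163) (lfA (⟨2, 0, 0, [], [⟨0, [], 317, 1, [8, 9, 15, 3, 1, 4, 5, 4, 5, 4, 5, 1, 3]⟩, ⟨0, [286, 290, 290, 297, 290], 316, 0, []⟩], 1⟩ : Der)) (ndA (nat_lit 164) (lfA (⟨2, 1, 4, [], [⟨3, [], 281, 0, [1, 3, 8, 10, 12, 15, 16, 1, 5, 1, 4, 3, 5]⟩, ⟨1, [], 253, 1, [1, 5, 1, 4, 2, 3, 9, 12, 13, 15, 4, 5]⟩, ⟨6, [155, 151, 164], 242, 0, [4, 3, 1, 5, 1, 4, 3, 2, 11, 13, 17, 4, 5]⟩,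 ⟨1, [], 284, 1, [3, 4, 8, 10, 15, 17, 3, 2, 4, 2, 5, 4, 3, 1, 5]⟩, ⟨2, [287, 291, 287], 316, 0, [2, 5, 1, 9, 18, 3, 1, 2, 5, 1, 3]⟩], 1⟩ : Der)) (lfA (⟨2, 0, 0, [], [⟨0, [], 326, 0, []⟩], 1⟩ : Der)))))
noncomputable def DT : ℕ → Der := (ndA (nat_lit 80) (ndA (nat_lit 32) (ndA (nat_lit 16) DT0 DT1) (ndA (nat_lit 48) DT2 (ndA (nat_lit 64) DT3 DT4))) (ndA (nat_lit 128) (ndA (nat_lit 96) DT5 (ndA (nat_lit 112) DT6 DT7)) (ndA (nat_lit 144) DT8 (ndA (nat_lit 160) DT9 DT10))))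

/-- two words in allowed letters have the same matrix up to sign -/
noncomputable def eqW (m : ℕ) (w w' : List ℕ) : Bool :=
  band (allM m w) (band (allM m w') (eqC (wF w) (wF w')))

noncomputable def eqv : ℕ → List ℕ → List ℕ → Bool := selE [eqW (mskL gN), eqW (mskL gS)]

noncomputable def chk : ℕ → Bool := chkF FT DT LW [tri] iv gN eqv

theorem ty0 : typeOK C1M0.nets gN C1M0.rels iv = true := by decide +kernel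
def s0_0 : Sid := ⟨0, [0, 1, 2, 3, 4, 5, 6, 7, 8, 9, 10, 11, 12, 13], [(14, 0)], [10, 2, 4, 6, 0, 4, 8, 10, 6, 8, 10, 2, 4, 6, 8, 0, 10, 4, 8, 0]⟩
def s0_1 : Sid := ⟨2, [34, 35, 36, 37, 38, 39, 40, 41, 42, 43, 44, 45, 46, 47], [(33, 0), (48, 1), (76, 19), (92, 59)], [2, 6, 4, 8, 0, 6, 2, 8, 4, 6, 2, 12, 8, 4, 2, 0]⟩
def s0_2 : Sid := ⟨6, [118, 119, 120, 121, 122, 123, 124, 125, 126, 127, 128, 129, 130, 131, 136, 137], [(117, 0), (166, 10), (206, 177)], [14, 0, 6, 4, 8, 14, 12, 0, 14, 8, 12, 14, 0, 4, 0]⟩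
def s0_3 : Sid := ⟨7, [140, 141, 142, 143, 144, 145, 146, 147, 148, 149, 150, 151, 152, 153, 154, 155, 156, 157, 158, 159, 164, 165], [(139, 0), (184, 3), (182, 34), (220, 18), (242, 126), (252, 177)], [20, 10, 2, 16, 20, 4, 18, 16, 10, 20, 0, 18, 8]⟩
def s0_4 : Sid := ⟨14, [268, 269, 270, 271, 272, 273, 274, 275, 276, 277, 282, 283], [(267, 0), (281, 16), (328, 207)], [0, 2, 4, 8, 10, 4, 0, 8, 4, 10, 2, 8, 0, 10, 2, 0]⟩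
def s0_5 : Sid := ⟨15, [286, 287, 288, 289, 290, 291, 296, 297], [(285, 0), (298, 3), (316, 18)], [6, 0, 2, 4, 6, 0, 2, 6, 4, 0, 6, 4, 2, 6, 2]⟩
def SS0 : List Sid := [s0_0, s0_1, s0_2, s0_3, s0_4, s0_5]
def full0 : ℕ := Nat.pred (Nat.pow 2 1771)

theorem ty1 : typeOK C1M1.nets gS C1M1.rels iv = true := by decide +kernel
def s1_0 : Sid := ⟨1, [16, 17, 18, 19, 20, 21, 22, 23, 24, 25, 26, 27, 28, 29, 30, 31], [(15, 0), (32, 1)], [14]⟩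
def s1_1 : Sid := ⟨3, [50, 51, 52, 53, 54, 55, 56, 57, 58, 59, 60, 61, 62, 63, 64, 65, 66, 67, 68, 69, 74, 75], [(49, 0)], [20, 18]⟩
def s1_2 : Sid := ⟨4, [78, 79, 80, 81, 82, 83, 84, 85, 86, 87, 88, 89, 90, 91], [(77, 0), (116, 1)], [12]⟩
def s1_3 : Sid := ⟨5, [94, 95, 96, 97, 98, 99, 100, 101, 102, 103, 104, 105, 106, 107, 108, 109, 110, 111, 112, 113, 114, 115], [(93, 0), (138, 1)], [10]⟩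
def s1_4 : Sid := ⟨8, [168, 169, 170, 171, 172, 173, 174, 175, 176, 177, 178, 179], [(167, 0), (183, 1)], [4]⟩
def s1_5 : Sid := ⟨9, [186, 187, 188, 189, 190, 191, 192, 193, 194, 195, 196, 197, 198, 199, 204, 205], [(185, 0)], [14, 6]⟩
def s1_6 : Sid := ⟨10, [208, 209, 210, 211, 212, 213, 214, 215, 216, 217, 218, 219], [(207, 0), (266, 1)], [0]⟩
def s1_7 : Sid := ⟨11, [222, 223, 224, 225, 226, 227, 228, 229, 230, 231, 232, 233, 234, 235, 240, 241], [(221, 0)], [14, 10]⟩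
def s1_8 : Sid := ⟨12, [244, 245, 246, 247, 248, 249, 250, 251], [(243, 0), (284, 1)], [0]⟩
def s1_9 : Sid := ⟨13, [254, 255, 256, 257, 258, 259, 260, 261, 262, 263, 264, 265], [(253, 0), (280, 1)], [2]⟩
def s1_10 : Sid := ⟨16, [300, 301, 302, 303, 304, 305, 306, 307, 308, 309, 314, 315], [(299, 0)], [10, 0]⟩
def s1_11 : Sid := ⟨17, [318, 319, 320, 321, 322, 323, 324, 325], [(317, 0), (329, 2)], [4]⟩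
def SS1 : List Sid := [s1_0, s1_1, s1_2, s1_3, s1_4, s1_5, s1_6, s1_7, s1_8, s1_9, s1_10, s1_11]
def full1 : ℕ := Nat.pred (Nat.pow 2 3)

theorem sd0_0 : sideOK FT iv 165 C1M0.nets (mskL gN) (mskL gS) (SS1.map Sid.j) 0 full0 s0_0 = true := by decide +kernel
theorem sd0_1 : sideOK FT iv 165 C1M0.nets (mskL gN) (mskL gS) (SS1.map Sid.j) 0 full0 s0_1 = true := by decide +kernel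
theorem sd0_2 : sideOK FT iv 165 C1M0.nets (mskL gN) (mskL gS) (SS1.map Sid.j) 0 full0 s0_2 = true := by decide +kernel
theorem sd0_3 : sideOK FT iv 165 C1M0.nets (mskL gN) (mskL gS) (SS1.map Sid.j) 0 full0 s0_3 = true := by decide +kernel
theorem sd0_4 : sideOK FT iv 165 C1M0.nets (mskL gN) (mskL gS) (SS1.map Sid.j) 0 full0 s0_4 = true := by decide +kernel
theorem sd0_5 : sideOK FT iv 165 C1M0.nets (mskL gN) (mskL gS) (SS1.map Sid.j) 0 full0 s0_5 = true := by decide +kernel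
theorem sd0 : ∀ s ∈ SS0, sideOK FT iv 165 C1M0.nets (mskL gN) (mskL gS) (SS1.map Sid.j) 0 full0 s = true :=
  (forall_cons sd0_0 (forall_cons sd0_1 (forall_cons sd0_2 (forall_cons sd0_3 (forall_cons sd0_4 (forall_cons sd0_5 (forall_nil' _)))))))
theorem kp0 : keepErr C1M0.nets (gN.map fun x => [x]) full0 = 0 := by decide +kernel
theorem po0 : orbErr C1M0.nets (gN.map fun x => [x]) [5, 1, 2, 3, 0, 2, 4, 5, 3, 4, 5, 1, 2, 3, 4, 0, 5, 2, 4, 0] 0 11 1771 = 0 := by decide +kernel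
theorem fx0_ : fixErr C1M0.nets (gB.map fun x => [x]) [0] = 0 := by decide +kernel

theorem sd1_0 : sideOK FT iv 165 C1M1.nets (mskL gS) (mskL gN) (SS0.map Sid.j) 0 full1 s1_0 = true := by decide +kernel
theorem sd1_1 : sideOK FT iv 165 C1M1.nets (mskL gS) (mskL gN) (SS0.map Sid.j) 0 full1 s1_1 = true := by decide +kernel
theorem sd1_2 : sideOK FT iv 165 C1M1.nets (mskL gS) (mskL gN) (SS0.map Sid.j) 0 full1 s1_2 = true := by decide +kernel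
theorem sd1_3 : sideOK FT iv 165 C1M1.nets (mskL gS) (mskL gN) (SS0.map Sid.j) 0 full1 s1_3 = true := by decide +kernel
theorem sd1_4 : sideOK FT iv 165 C1M1.nets (mskL gS) (mskL gN) (SS0.map Sid.j) 0 full1 s1_4 = true := by decide +kernel
theorem sd1_5 : sideOK FT iv 165 C1M1.nets (mskL gS) (mskL gN) (SS0.map Sid.j) 0 full1 s1_5 = true := by decide +kernel
theorem sd1_6 : sideOK FT iv 165 C1M1.nets (mskL gS) (mskL gN) (SS0.map Sid.j) 0 full1 s1_6 = true := by decide +kernel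
theorem sd1_7 : sideOK FT iv 165 C1M1.nets (mskL gS) (mskL gN) (SS0.map Sid.j) 0 full1 s1_7 = true := by decide +kernel
theorem sd1_8 : sideOK FT iv 165 C1M1.nets (mskL gS) (mskL gN) (SS0.map Sid.j) 0 full1 s1_8 = true := by decide +kernel
theorem sd1_9 : sideOK FT iv 165 C1M1.nets (mskL gS) (mskL gN) (SS0.map Sid.j) 0 full1 s1_9 = true := by decide +kernel
theorem sd1_10 : sideOK FT iv 165 C1M1.nets (mskL gS) (mskL gN) (SS0.map Sid.j) 0 full1 s1_10 = true := by decide +kernel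
theorem sd1_11 : sideOK FT iv 165 C1M1.nets (mskL gS) (mskL gN) (SS0.map Sid.j) 0 full1 s1_11 = true := by decide +kernel
theorem sd1 : ∀ s ∈ SS1, sideOK FT iv 165 C1M1.nets (mskL gS) (mskL gN) (SS0.map Sid.j) 0 full1 s = true :=
  (forall_cons sd1_0 (forall_cons sd1_1 (forall_cons sd1_2 (forall_cons sd1_3 (forall_cons sd1_4 (forall_cons sd1_5 (forall_cons sd1_6 (forall_cons sd1_7 (forall_cons sd1_8 (forall_cons sd1_9 (forall_cons sd1_10 (forall_cons sd1_11 (forall_nil' _)))))))))))))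
theorem kp1 : keepErr C1M1.nets (gS.map fun x => [x]) full1 = 0 := by decide +kernel
theorem po1 : orbErr C1M1.nets (gS.map fun x => [x]) [17, 16] 0 2 3 = 0 := by decide +kernel
theorem fx1_ : fixErr C1M1.nets (gB.map fun x => [x]) [0] = 0 := by decide +kernel

/-- an entry of the matrix of the word is not an entry of a monomial matrix -/
noncomputable def notM (w : List ℕ) (i j : ℕ) : Bool := H14.force (dg (row (wF w) i) j) fun d =>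
  Nat.blt i 24 && Nat.blt j 24 && !Nat.beq d 24 && !Nat.beq d 32 && !Nat.beq d 40

def NM : List (ℕ × ℕ × ℕ) := [(2, 0, 0), (6, 0, 0), (7, 3, 0), (14, 0, 0), (15, 0, 0)]
theorem NM_ok : H14.allL NM (fun p => notM (getW LW p.1) p.2.1 p.2.2) = true := by decide +kernel
theorem xi_ok : notM [19] 0 0 = true := by decide +kernel

end Cfsg.Agent.H26.C1
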