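import Cfsg.Agent.H26.ZassCard
import Cfsg.Agent.H12.ZassNormal
import Cfsg.Agent.H41.FieldAut

/-! Transitive groups of degree `p + 1` and order `(p + 1) p d` with `d < p`; coordinates for doubly
transitive groups with a regular normal subgroup. -/

set_option autoImplicit false

namespace Cfsg.Agent.H26

open MulAction Cfsg.Agent.H12

variable {G Ω : Type*} [Group G] [MulAction G Ω]

theorem card_eq_of_zt [Finite G] [Finite Ω] (hT : ZT G Ω) {a b : Ω} (hab : a ≠ b) :
    Nat.card G = Nat.card Ω * (Nat.card Ω - 1) *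
      Nat.card (stabilizer G a ⊓ stabilizer G b : Subgroup G) := by
  have : IsPretransitive G Ω := ⟨hT.trans⟩
  have h1 : (stabilizer G (b)).relIndex (stabilizer G a) = Nat.card Ω - 1 := by
    have h2 := index_stabilizer (stabilizer G a) b
    have h3 : orbit (stabilizer G a) b = {a}ᶜ := by
      ext x
      constructor
      · rintro ⟨g, rfl⟩
        exact smul_ne_of_fix g.2 hab.symm
      · intro hx
        obtain ⟨g, h1, h2⟩ := hT.two hab (Ne.symm hx)
        exact ⟨⟨g, h1⟩, h2⟩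
    rw [h3, Set.ncard_compl, Set.ncard_singleton] at h2
    exact h2
  rw [← h1, ← Subgroup.inf_relIndex_left, ← index_stabilizer_of_transitive G a, mul_comm _ (Subgroup.relIndex _ _),
    Subgroup.relIndex_mul_index inf_le_left, Subgroup.index_mul_card]

theorem exists_prime_ker [Finite G] [Finite Ω] [FaithfulSMul G Ω] [IsPretransitive G Ω] {p d : ℕ}
    (hp : p.Prime) (hΩ : Nat.card Ω = p + 1) (hG : Nat.card G = (p + 1) * p * d) (hd : d < p)
    (a : Ω) : ∃ F ≤ stabilizer G a, Nat.card F = p ∧ (∀ g, g • a = a → ∀ u ∈ F, g * u * g⁻¹ ∈ F) ∧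
      (∀ u ∈ F, u ≠ 1 → ∀ c, u • c = c → c = a) ∧ ∀ b c, b ≠ a → c ≠ a → ∃ u ∈ F, u • b = c := by
  have := Fact.mk hp
  have hd0 : 0 < d := by
    rcases Nat.eq_zero_or_pos d with rfl | h
    · exact absurd hG Nat.card_pos.ne'
    · exact h
  have h1 : Nat.card (stabilizer G a) = p * d := by
    have := (stabilizer G a).index_mul_card
    rw [index_stabilizer_of_transitive, hΩ, hG, mul_assoc] at this
    exact Nat.eq_of_mul_eq_mul_left (Nat.succ_pos p) this
  let P : Sylow p (stabilizer G a) := default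
  have hP : Nat.card P = p := by
    rw [P.card_eq_multiplicity, h1, Nat.factorization_mul hp.ne_zero hd0.ne', Finsupp.add_apply,
      hp.factorization_self, Nat.factorization_eq_zero_of_lt hd, pow_one]
  have hPi : P.1.index = d := by
    have := P.1.index_mul_card
    rw [hP, h1, mul_comm] at this
    exact Nat.eq_of_mul_eq_mul_left hp.pos this
  have : Subsingleton (Sylow p (stabilizer G a)) := by
    have h2 := card_sylow_modEq_one p (stabilizer G a)
    have h3 := Nat.le_of_dvd hd0 (hPi ▸ P.card_dvd_index)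
    rw [Nat.ModEq, Nat.mod_eq_of_lt (by omega), Nat.mod_eq_of_lt hp.one_lt] at h2
    exact (Nat.card_eq_one_iff_unique.1 h2).1
  have hPn : P.1.Normal := P.normal_of_subsingleton
  have hF : Nat.card (P.1.map (stabilizer G a).subtype) = p := by
    rw [Subgroup.card_map_of_injective (Subgroup.subtype_injective _), hP]
  have hFa : P.1.map (stabilizer G a).subtype ≤ stabilizer G a := Subgroup.map_subtype_le _
  have hfix : ∀ u ∈ P.1.map (stabilizer G a).subtype, u ≠ 1 → ∀ c, u • c = c → c = a := by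
    intro u hu hu1 c hc
    by_contra hca
    have h2 := card_fixedBy_modEq (α := Ω) (k := 1) hp (g := u) (by
      rw [pow_one, ← hF]; exact congrArg Subtype.val (pow_card_eq_one' (x := (⟨u, hu⟩ : P.1.map _))))
    have h3 : 1 < Nat.card (fixedBy Ω u) :=
      Finite.one_lt_card_iff_nontrivial.2 ⟨⟨c, hc⟩, ⟨a, hFa hu⟩, fun e => hca (congrArg Subtype.val e)⟩
    obtain ⟨x, hx⟩ := exists_moved (Ω := Ω) hu1
    have h4 : Nat.card (fixedBy Ω u) < Nat.card Ω := Finite.card_subtype_lt (x := x) hx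
    have h5 := (Nat.modEq_iff_dvd' h4.le).1 h2.symm
    have := Nat.le_of_dvd (by omega) h5
    omega
  refine ⟨_, hFa, hF, ?_, hfix, fun b c hb hc => ?_⟩
  · rintro g hg _ ⟨u, hu, rfl⟩
    exact ⟨_, hPn.conj_mem u hu ⟨g, hg⟩, rfl⟩
  · let f : P.1.map (stabilizer G a).subtype → ({a}ᶜ : Set Ω) := fun u =>
      ⟨(u : G) • b, smul_ne_of_fix (hFa u.2) hb⟩
    have hf : Function.Injective f := fun u v e => by
      by_contra hne
      refine hb (hfix ((v : G)⁻¹ * u) (Subgroup.mul_mem _ (Subgroup.inv_mem _ v.2) u.2)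
        (fun h => hne (Subtype.ext (inv_mul_eq_one.1 h).symm)) b ?_)
      rw [mul_smul, inv_smul_eq_iff]
      exact congrArg Subtype.val e
    obtain ⟨u, hu⟩ := (hf.bijective_of_nat_card_le (by
      rw [hF, Nat.card_coe_set_eq, Set.ncard_compl, Set.ncard_singleton, hΩ]; omega)).2 ⟨c, hc⟩
    exact ⟨u, u.2, congrArg Subtype.val hu⟩

theorem zt_of_prime [Finite G] [Finite Ω] [FaithfulSMul G Ω] [IsPretransitive G Ω] {p d : ℕ}
    (hp : p.Prime) (hΩ : Nat.card Ω = p + 1) (hG : Nat.card G = (p + 1) * p * d) (hd : d < p) :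
    ZT G Ω ∧ ∀ a : Ω, ∀ u ∈ zker G a, ∀ v ∈ zker G a, u * v = v * u := by
  have := Fact.mk hp
  have hT : ZT G Ω :=
    { faithful := fun g hg => eq_of_smul_eq_smul (α := Ω) fun c => by rw [hg, one_smul]
      two := fun {a b c d} hab hcd => by
        obtain ⟨g, rfl⟩ := exists_smul_eq G a c
        obtain ⟨F, hF, -, -, -, h⟩ := exists_prime_ker hp hΩ hG hd (g • a)
        obtain ⟨u, hu, e⟩ := h (g • b) d ((MulAction.injective g).ne hab.symm) hcd.symm
        exact ⟨u * g, by rw [mul_smul]; exact hF hu, by rw [mul_smul, e]⟩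
      three := fun g a b c hab hbc hac ha hb hc => by
        obtain ⟨F, hF, h1, h2, h3, h4⟩ := exists_prime_ker hp hΩ hG hd a
        obtain ⟨u, hu, rfl⟩ := h4 b c hab.symm hac.symm
        have hu1 : u ≠ 1 := by rintro rfl; exact hbc (one_smul _ _).symm
        have h5 : Commute g u := by
          by_contra hne
          refine hab (h3 (u⁻¹ * (g * u * g⁻¹)) (F.mul_mem (F.inv_mem hu) (h2 g ha u hu))
            (fun h => hne ?_) b ?_).symm
          · exact mul_inv_eq_iff_eq_mul.1 (inv_mul_eq_one.1 h).symm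
          · rw [mul_smul, mul_smul, mul_smul, inv_smul_eq_iff.2 hb.symm, hc, inv_smul_smul]
        refine eq_of_smul_eq_smul (α := Ω) fun x => ?_
        rw [one_smul]
        by_cases hx : x = a
        · rw [hx, ha]
        obtain ⟨v, hv, rfl⟩ := h4 b x hab.symm hx
        obtain ⟨k, hk⟩ := mem_powers_of_prime_card h1 (g := ⟨u, hu⟩) (g' := ⟨v, hv⟩)
          (fun e => hu1 (congrArg Subtype.val e))
        have h6 : u ^ k = v := congrArg Subtype.val hk
        rw [← mul_smul, ← h6, (h5.pow_right k).eq, mul_smul, hb] }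
  refine ⟨hT, fun a => ?_⟩
  obtain ⟨F, hF, h1, -, h3, -⟩ := exists_prime_ker hp hΩ hG hd a
  have : Nontrivial Ω := Finite.one_lt_card_iff_nontrivial.1 (by have := hp.pos; omega)
  obtain ⟨b, hb⟩ := exists_ne a
  rw [← hT.eq_ker_of_card hb hF (by omega) h3]
  have := isCyclic_of_prime_card h1
  exact fun u hu v hv => congrArg Subtype.val (mul_comm' (⟨u, hu⟩ : F) ⟨v, hv⟩)

/-- Semi-affine coordinates when there is a regular normal subgroup and the Frobenius kernel of the
point stabiliser is abelian. -/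
theorem semiaffine_coords [Finite G] (hT : ZT G Ω) {a b : Ω} (hab : a ≠ b)
    (hc : ∀ u ∈ zker G a, ∀ v ∈ zker G a, u * v = v * u) {N : Subgroup G} (hN : N.Normal)
    (htr : IsPretransitive N Ω) (hreg : ∀ x ∈ N, x • a = a → x = 1) :
    ∃ (K : Type) (_ : Field K) (_ : Fintype K) (ε : K ≃ Ω),
      (∀ g : G, ∃ c : K, c ≠ 0 ∧ ∃ t : K, ∃ θ : K ≃+* K, ∀ x, g • ε x = ε (c * θ x + t)) ∧
      Nat.card (stabilizer G a ⊓ stabilizer G b : Subgroup G) ∣ Nat.card (K ≃+* K) := by
  have huniq : ∀ x ∈ N, ∀ y ∈ N, x • a = y • a → x = y := fun x hx y hy e =>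
    (inv_mul_eq_one.1 (hreg (y⁻¹ * x) (N.mul_mem (N.inv_mem hy) hx)
      (by rw [mul_smul, e, inv_smul_smul]))).symm
  have hconj : ∀ x ∈ N, ∀ y ∈ N, x ≠ 1 → y ≠ 1 → ∃ k ∈ zker G a, k * x * k⁻¹ = y := by
    intro x hx y hy hx1 hy1
    obtain ⟨k, hk, e⟩ := hT.ker_trans (fun e => hx1 (hreg x hx e)) (fun e => hy1 (hreg y hy e))
    exact ⟨k, hk, huniq _ (hN.conj_mem x hx k) y hy (by
      rw [mul_smul, mul_smul, inv_smul_eq_iff.2 (hT.ker_fix hk).symm, e])⟩
  obtain ⟨hcomm, -⟩ := comm_of_conj_trans (R := N) (fun x hx y hy hx1 hy1 => by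
    obtain ⟨g, -, e⟩ := hconj x hx y hy hx1 hy1
    exact ⟨g, fun r hr => by simpa using hN.conj_mem r hr g⁻¹, e⟩)
  obtain ⟨⟨u₀, hu₀⟩, hu₀b⟩ := htr.exists_smul_eq a b
  replace hu₀b : u₀ • a = b := hu₀b
  obtain ⟨K, _, _, φ, hφi, hφr, hφa, hφ1, hφ⟩ := exists_field_of_normalizes N hcomm
    (zker G a : Set G) (fun x hx y hy u _ => by rw [hc x hx y hy])
    (fun h _ u hu => hN.conj_mem u hu h) (fun U hU hinv => by
      rw [or_iff_not_imp_left]
      intro hne
      obtain ⟨⟨u, hu⟩, hu1⟩ := Subgroup.ne_bot_iff_exists_ne_one.1 hne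
      refine le_antisymm hU fun y hy => ?_
      by_cases hy1 : y = 1
      · rw [hy1]; exact U.one_mem
      obtain ⟨k, hk, rfl⟩ := hconj u (hU hu) y hy (fun e => hu1 (Subtype.ext e)) hy1
      exact hinv k hk u hu) hu₀ (by rintro rfl; exact hab (by simpa using hu₀b))
  have hφm : ∀ x, φ x ∈ N := fun x => (hφr _).2 ⟨x, rfl⟩
  have hf : Function.Bijective (fun x => φ x • a) := by
    refine ⟨fun x y e => hφi (huniq _ (hφm x) _ (hφm y) e), fun y => ?_⟩
    obtain ⟨⟨u, hu⟩, e⟩ := htr.exists_smul_eq a y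
    obtain ⟨x, rfl⟩ := (hφr u).1 hu
    exact ⟨x, e⟩
  have hst : ∀ h : G, h • a = a →
      ∃ c : K, c ≠ 0 ∧ ∃ θ : K ≃+* K, ∀ x, h • φ x • a = φ (c * θ x) • a := by
    intro h ha
    obtain ⟨c, hc, θ, h1, -⟩ := hφ h (fun u hu => hN.conj_mem u hu h)
      (fun u hu => hT.conj_mem_ker' hu ha)
    exact ⟨c, hc, θ, fun x => by rw [← h1, mul_smul, mul_smul, inv_smul_eq_iff.2 ha.symm]⟩
  refine ⟨K, inferInstance, inferInstance, Equiv.ofBijective _ hf, fun g => ?_, ?_⟩
  · obtain ⟨t, ht⟩ := hf.2 (g • a)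
    obtain ⟨c, hc, θ, h1⟩ := hst ((φ t)⁻¹ * g) (by rw [mul_smul, inv_smul_eq_iff]; exact ht.symm)
    refine ⟨c, hc, t, θ, fun x => ?_⟩
    change g • φ x • a = φ (c * θ x + t) • a
    rw [add_comm, hφa, mul_smul, ← h1, mul_smul, smul_inv_smul]
  · have key : ∀ h : (stabilizer G a ⊓ stabilizer G b : Subgroup G),
        ∃ θ : K ≃+* K, ∀ x, (h : G) • φ x • a = φ (θ x) • a := by
      intro h
      obtain ⟨c, -, θ, h1⟩ := hst h h.2.1
      have h2 := h1 1
      rw [map_one, mul_one, hφ1, hu₀b, show (h : G) • b = b from h.2.2, ← hu₀b, ← hφ1] at h2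
      rw [← hf.1 h2] at h1
      exact ⟨θ, by simpa using h1⟩
    choose f hfθ using key
    refine Subgroup.card_dvd_of_injective (MonoidHom.mk' f fun x y => RingEquiv.ext fun z => hf.1 ?_)
      fun x y e => Subtype.ext ?_
    · change φ _ • a = φ (f x (f y z)) • a
      rw [← hfθ, ← hfθ, ← hfθ, Subgroup.coe_mul, mul_smul]
    · rw [← inv_mul_eq_one]
      refine hT.faithful _ fun c => ?_
      obtain ⟨z, rfl⟩ := hf.2 c
      rw [mul_smul, inv_smul_eq_iff, hfθ, hfθ, show f x = f y from e]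

end Cfsg.Agent.H26
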