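import Cfsg.Agent.H26.Basic
import Cfsg.Agent.S0713
import Mathlib.GroupTheory.GroupAction.Jordan
import Mathlib.GroupTheory.SpecificGroups.Alternating.Simple

set_option autoImplicit false

namespace Cfsg.Agent.H26

open MulAction Equiv Equiv.Perm

variable {α : Type*} [Fintype α] [DecidableEq α]

/-- A `t`-transitive group containing a nonidentity element that moves at most `t` points (and not
all of them) contains the alternating group. -/
theorem alt_le_of_small_support (G : Subgroup (Perm α)) {t : ℕ}
    (hG : IsMultiplyPretransitive G α t) (ht : t < Fintype.card α) {g : Perm α} (hg : g ∈ G)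
    (hg1 : g ≠ 1) (hs : g.support.card ≤ t) : alternatingGroup α ≤ G := by
  have h2 : 2 ≤ g.support.card := two_le_card_support_of_ne_one hg1
  have hprim : IsPreprimitive G α := isPreprimitive_of_is_two_pretransitive
    (isMultiplyPretransitive_of_le (n := t) (by omega) (by simpa using ht.le))
  obtain ⟨a, ha⟩ : ∃ a, a ∈ g.support := Finset.card_pos.1 (by omega)
  obtain ⟨e, he⟩ : ∃ e, e ∉ g.support := by
    by_contra h
    push Not at h
    have : g.support = Finset.univ := Finset.eq_univ_of_forall h
    rw [this, Finset.card_univ] at hs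
    omega
  obtain ⟨h, hh⟩ := exists_smul_eq_on_of_le hG ht.le g.support hs (swap a e)
    (swap a e).injective.injOn
  have hconj : (h : Perm α) * g * (h : Perm α)⁻¹ = swap a e * g * (swap a e)⁻¹ := by
    have key : ∀ k : Perm α, (∀ x ∈ g.support, k x = swap a e x) → ∀ y,
        (k * g * k⁻¹) y = if swap a e y ∈ g.support then swap a e (g (swap a e y)) else y := by
      intro k hk y
      split_ifs with hy
      · have : k⁻¹ y = swap a e y := by
          rw [inv_eq_iff_eq, hk _ hy, swap_apply_self]
        simp only [Perm.mul_apply, this]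
        exact hk _ (apply_mem_support.2 hy)
      · have hky : k (k⁻¹ y) = y := by simp
        have : k⁻¹ y ∉ g.support := by
          intro h'
          have h3 := hk _ h'
          rw [hky] at h3
          apply hy
          rw [h3, swap_apply_self]
          exact h'
        simp only [Perm.mul_apply, notMem_support.1 this, hky]
    ext y
    rw [key h hh y, key (swap a e) (fun _ _ => rfl) y]
  have hmem : g⁻¹ * ((h : Perm α) * g * (h : Perm α)⁻¹) ∈ G :=
    G.mul_mem (G.inv_mem hg) (G.mul_mem (G.mul_mem h.2 hg) (G.inv_mem h.2))
  have hge : g⁻¹ e = e := by rw [inv_eq_iff_eq, notMem_support.1 he]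
  have hae : e ≠ a := fun h => he (h ▸ ha)
  have e1 : g⁻¹ * (swap a e * g * (swap a e)⁻¹) = swap e (g⁻¹ a) * swap e a := by
    have := (swap_apply_apply g⁻¹ a e).symm
    rw [inv_inv, hge] at this
    rw [swap_inv, swap_comm e a, swap_comm e (g⁻¹ a), ← this]
    group
  rw [hconj, e1] at hmem
  refine alternatingGroup_le_of_isPreprimitive_of_isThreeCycle_mem hprim
    (isThreeCycle_swap_mul_swap_same ?_ hae ?_) hmem
  · intro h
    apply hae
    rw [← hge] at h
    exact g⁻¹.injective h
  · intro h
    rw [inv_eq_iff_eq] at h
    exact mem_support.1 ha h.symm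

/-- Jordan's theorem in the form: an element of order dividing `p` moving at most `2p - 1` points
of which `p + 3 ≤ n`. -/
theorem alt_le_of_prime_support (G : Subgroup (Perm α)) (hG : IsPreprimitive G α) {p : ℕ}
    (hp : p.Prime) (hpn : p + 3 ≤ Fintype.card α) {g : Perm α} (hg : g ∈ G) (hg1 : g ≠ 1)
    (hgp : g ^ p = 1) (hs : g.support.card < 2 * p) : alternatingGroup α ≤ G := by
  have := Fact.mk hp
  have ho : orderOf g = p := orderOf_eq_prime hgp hg1
  have hc : g.IsCycle := isCycle_of_prime_order (ho ▸ hp) (ho ▸ hs)
  have := hp.two_le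
  exact S0713.result G hG hp (by omega) hpn hc (by rw [← hc.orderOf, ho]) hg

end Cfsg.Agent.H26
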